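import Cfsg.Agent.Lib.Mathieu.OrbitCert
import Cfsg.Agent.Lib.Mathieu.Sextets

/-!
Tools to compute with octads, dodecads, sextets and trios through their masks.
-/

set_option autoImplicit false
set_option maxRecDepth 20000

namespace Cfsg.Agent.Mathieu

open Cfsg
open scoped Pointwise

/-- The masks of the subsets of the set with mask `b`, among the first `n` points. -/
def subMasks : ℕ → ℕ → List ℕ
  | 0, _ => [0]
  | n + 1, b =>
    (subMasks n (b / 2)).flatMap fun r => if b % 2 == 1 then [2 * r, 2 * r + 1] else [2 * r]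

theorem mem_subMasks : ∀ (n b m : ℕ), m < 2 ^ n → m &&& b = m → m ∈ subMasks n b := by
  intro n
  induction n with
  | zero => intro b m hm _; simp [subMasks]; omega
  | succ n ih =>
    intro b m hm h
    rw [subMasks, List.mem_flatMap]
    refine ⟨m / 2, ih _ _ (by rw [pow_succ] at hm; omega) ?_, ?_⟩
    · rw [← Nat.and_div_two, h]
    · have h0 : b % 2 = 0 → m % 2 = 0 := by
        intro hb
        have h1 : (m &&& b).testBit 0 = m.testBit 0 := by rw [h]
        simp [Nat.testBit_zero, hb] at h1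
        omega
      rcases Nat.mod_two_eq_zero_or_one b with hb | hb
      · simp [hb]
        have := h0 hb
        omega
      · simp [hb]
        omega

/-- Counting the words of weight `k` with a property on their masks. -/
theorem ncard_weight_filter (k : ℕ) (P : Finset GolayPt → Prop) (q : ℕ → Bool)
    (h : ∀ m ∈ maskList k, q m = true ↔ P (ptsOf m)) :
    {s | s ∈ wordsOfWeight (golayCode : Set (GolayPt → ZMod 2)) k ∧ P s}.ncard =
      ((maskList k).filter q).length := by
  classical
  have hnd : ((maskList k).filter q).Nodup := (List.Nodup.filter _ codeList_nodup).filter _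
  have hlt : ∀ m ∈ (maskList k).filter q, m < 2 ^ 24 := fun m hm =>
    (inCode_spec (mem_maskList.1 (List.mem_filter.1 hm).1).1).1
  have hset : {s | s ∈ wordsOfWeight (golayCode : Set (GolayPt → ZMod 2)) k ∧ P s} =
      ↑(((maskList k).filter q).map ptsOf).toFinset := by
    ext s
    simp only [Set.mem_ofPred_eq, List.coe_toFinset, List.mem_map, List.mem_filter,
      mem_wordsOfWeight_iff]
    constructor
    · rintro ⟨⟨m, hm, rfl⟩, hP⟩
      exact ⟨m, ⟨hm, (h m hm).2 hP⟩, rfl⟩
    · rintro ⟨m, ⟨hm, hq⟩, rfl⟩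
      exact ⟨⟨m, hm, rfl⟩, (h m hm).1 hq⟩
  rw [hset, Set.ncard_coe_finset, List.toFinset_card_of_nodup, List.length_map]
  exact hnd.map_on fun x hx y hy e => ptsOf_inj (hlt x hx) (hlt y hy) e

/-- A permutation preserving a set `A` carries the part with `P` onto the part with `Q`. -/
theorem ncard_transport {β : Type*} [MulAction (Equiv.Perm GolayPt) β] (g : Equiv.Perm GolayPt)
    {A : Set β} (hA : ∀ y, g • y ∈ A ↔ y ∈ A) (P Q : β → Prop) (h : ∀ y, Q (g • y) ↔ P y) :
    {y | y ∈ A ∧ Q y}.ncard = {y | y ∈ A ∧ P y}.ncard := by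
  have : {y | y ∈ A ∧ Q y} = (fun y => g • y) '' {y | y ∈ A ∧ P y} := by
    ext y
    constructor
    · rintro ⟨h1, h2⟩
      exact ⟨g⁻¹ • y, ⟨(hA _).1 (by rwa [smul_inv_smul]), (h _).1 (by rwa [smul_inv_smul])⟩,
        smul_inv_smul _ _⟩
    · rintro ⟨z, ⟨h1, h2⟩, rfl⟩
      exact ⟨(hA _).2 h1, (h _).2 h2⟩
  rw [this, Set.ncard_image_of_injective _ (MulAction.injective g)]

theorem smul_mem_iff_of_inv {β : Type*} [MulAction (Equiv.Perm GolayPt) β] {A : Set β}
    (hA : ∀ g ∈ M24, ∀ y ∈ A, g • y ∈ A) {g : Equiv.Perm GolayPt} (hg : g ∈ M24) (y : β) :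
    g • y ∈ A ↔ y ∈ A :=
  ⟨fun h => by simpa using hA _ (inv_mem hg) _ h, hA g hg y⟩

theorem card_smul_pts (σ : Equiv.Perm GolayPt) (s : Finset GolayPt) : (σ • s).card = s.card :=
  Finset.card_smul_finset σ s

theorem card_smul_inter (σ : Equiv.Perm GolayPt) (s t : Finset GolayPt) :
    (σ • s ∩ σ • t).card = (s ∩ t).card := by
  rw [← smul_inter_pts, card_smul_pts]

end Cfsg.Agent.Mathieu
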