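import Cfsg.Agent.Lib.Mathieu.Stab.Covers

/-!
Permutations of labelled objects induced by elements of `M24`, and complete lists of packed
elements of finite subgroups.
-/

set_option autoImplicit false

namespace Cfsg.Agent.Mathieu

open Cfsg
open scoped Pointwise

/-! ### Lists of packed elements -/

open Classical in
/-- The permutation packed by `l` (the identity if there is none). -/
noncomputable def decode (l : ℕ) : Equiv.Perm GolayPt :=
  if h : permOK 24 l = true then (exists_rep (e := ptEnc) h).choose else 1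

theorem rep_decode {l : ℕ} (h : permOK 24 l = true) : Rep ptEnc (decode l) l := by
  rw [decode, dif_pos h]
  exact (exists_rep (e := ptEnc) h).choose_spec

theorem decode_eq {σ : Equiv.Perm GolayPt} {l : ℕ} (h : permOK 24 l = true) (hσ : Rep ptEnc σ l) :
    decode l = σ :=
  (rep_decode h).unique hσ

/-- The packed form shortened to 24 bytes. -/
def key24 (l : ℕ) : ℕ := (List.range 24).foldr (fun i acc => app l i + 256 * acc) 0

/-- Packed elements of `M24` that are pairwise different. -/
def elemsOK (L : List ℕ) : Bool :=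
  (L.all fun l => permOK 24 l && presCode l) && decide (L.map key24).Nodup

theorem elemsOK_spec {L : List ℕ} (h : elemsOK L = true) :
    (∀ l ∈ L, permOK 24 l = true ∧ decode l ∈ M24) ∧ (L.map decode).Nodup := by
  simp only [elemsOK, Bool.and_eq_true, List.all_eq_true, decide_eq_true_eq] at h
  obtain ⟨h1, h2⟩ := h
  refine ⟨fun l hl => ⟨(h1 l hl).1, mem_M24_of_rep (rep_decode (h1 l hl).1) (h1 l hl).2⟩,
    (List.Nodup.of_map _ h2).map_on fun a ha b hb he => List.inj_on_of_nodup_map h2 ha hb ?_⟩
  unfold key24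
  refine List.foldr_ext _ _ _ fun i hi acc => ?_
  rw [List.mem_range] at hi
  have ha' := rep_decode (h1 a ha).1 (idx ptEnc i)
  have hb' := rep_decode (h1 b hb).1 (idx ptEnc i)
  rw [idx_val hi] at ha' hb'
  rw [← ha', ← hb', he]

theorem length_le_card {L : List ℕ} (h : elemsOK L = true) (A : Subgroup (Equiv.Perm GolayPt))
    (hA : ∀ l ∈ L, decode l ∈ A) : L.length ≤ Nat.card A := by
  classical
  rw [← List.length_map (f := decode), ← List.toFinset_card_of_nodup (elemsOK_spec h).2,
    ← Set.ncard_coe_finset, ← SetLike.coe_sort_coe, Nat.card_coe_set_eq]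
  refine Set.ncard_le_ncard (fun σ hσ => ?_) (Set.toFinite _)
  simp only [List.coe_toFinset, Set.mem_ofPred_eq, List.mem_map] at hσ
  obtain ⟨l, hl, rfl⟩ := hσ
  exact hA l hl

/-- A list as long as the subgroup is large contains all of it. -/
theorem exists_of_card_le {L : List ℕ} (h : elemsOK L = true) {A : Subgroup (Equiv.Perm GolayPt)}
    (hA : ∀ l ∈ L, decode l ∈ A) (hcard : Nat.card A ≤ L.length) {σ : Equiv.Perm GolayPt}
    (hσ : σ ∈ A) : ∃ l ∈ L, decode l = σ := by
  classical
  have heq : ((L.map decode).toFinset : Set (Equiv.Perm GolayPt)) = (A : Set (Equiv.Perm GolayPt)) := by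
    refine Set.eq_of_subset_of_ncard_le (fun τ hτ => ?_) ?_ (Set.toFinite _)
    · simp only [List.coe_toFinset, Set.mem_ofPred_eq, List.mem_map] at hτ
      obtain ⟨l, hl, rfl⟩ := hτ
      exact hA l hl
    · rw [Set.ncard_coe_finset, List.toFinset_card_of_nodup (elemsOK_spec h).2, List.length_map,
        ← Nat.card_coe_set_eq, SetLike.coe_sort_coe]
      exact hcard
  have : σ ∈ ((L.map decode).toFinset : Set (Equiv.Perm GolayPt)) := heq ▸ hσ
  simpa using this

/-! ### Labelled objects -/

variable {ι β : Type} [MulAction (Equiv.Perm GolayPt) β] {lab : ι → β}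

/-- The elements of `M24` permuting the labelled objects. -/
def labStab [Finite ι] (lab : ι → β) (hlab : Function.Injective lab) :
    Subgroup (Equiv.Perm GolayPt) where
  carrier := {σ | σ ∈ M24 ∧ ∀ i, ∃ j, σ • lab i = lab j}
  one_mem' := ⟨one_mem _, fun i => ⟨i, one_smul _ _⟩⟩
  mul_mem' := by
    rintro σ τ ⟨h1, h2⟩ ⟨h3, h4⟩
    refine ⟨mul_mem h1 h3, fun i => ?_⟩
    obtain ⟨j, hj⟩ := h4 i
    obtain ⟨k, hk⟩ := h2 j
    exact ⟨k, by rw [mul_smul, hj, hk]⟩
  inv_mem' := by
    rintro σ ⟨h1, h2⟩
    refine ⟨inv_mem h1, ?_⟩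
    choose f hf using h2
    have hinj : Function.Injective f := fun a b hab =>
      hlab (MulAction.injective σ (show σ • lab a = σ • lab b by rw [hf, hf, hab]))
    intro i
    obtain ⟨j, rfl⟩ := (Finite.injective_iff_surjective.1 hinj) i
    exact ⟨j, by rw [inv_smul_eq_iff, hf]⟩

theorem mem_labStab [Finite ι] {hlab : Function.Injective lab} {σ : Equiv.Perm GolayPt} :
    σ ∈ labStab lab hlab ↔ σ ∈ M24 ∧ ∀ i, ∃ j, σ • lab i = lab j := Iff.rfl

/-- The induced map of labels. -/
noncomputable def labMap [Finite ι] {hlab : Function.Injective lab} (σ : labStab lab hlab) (i : ι) :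
    ι := ((mem_labStab.1 σ.2).2 i).choose

theorem labMap_spec [Finite ι] {hlab : Function.Injective lab} (σ : labStab lab hlab) (i : ι) :
    (σ : Equiv.Perm GolayPt) • lab i = lab (labMap σ i) :=
  ((mem_labStab.1 σ.2).2 i).choose_spec

/-- The permutation of labels induced by an element permuting the labelled objects. -/
noncomputable def labPerm [Finite ι] (hlab : Function.Injective lab) :
    labStab lab hlab →* Equiv.Perm ι where
  toFun σ := Equiv.ofBijective (labMap σ) ⟨fun a b hab => hlab (MulAction.injective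
    (σ : Equiv.Perm GolayPt) (show (σ : Equiv.Perm GolayPt) • lab a = (σ : Equiv.Perm GolayPt) • lab b
      by rw [labMap_spec, labMap_spec, hab])), by
    refine Finite.injective_iff_surjective.1 fun a b hab => hlab (MulAction.injective
      (σ : Equiv.Perm GolayPt) ?_)
    show (σ : Equiv.Perm GolayPt) • lab a = (σ : Equiv.Perm GolayPt) • lab b
    rw [labMap_spec, labMap_spec, hab]⟩
  map_one' := by
    ext i
    refine hlab ?_
    show lab (labMap 1 i) = lab i
    rw [← labMap_spec (lab := lab) (1 : labStab lab hlab) i]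
    exact one_smul _ _
  map_mul' σ τ := by
    ext i
    refine hlab ?_
    show lab (labMap (σ * τ) i) = lab (labMap σ (labMap τ i))
    rw [← labMap_spec (lab := lab) (σ * τ) i, Subgroup.coe_mul, mul_smul, labMap_spec τ, labMap_spec σ]

theorem labPerm_spec [Finite ι] (hlab : Function.Injective lab) (σ : labStab lab hlab) (i : ι) :
    (σ : Equiv.Perm GolayPt) • lab i = lab (labPerm hlab σ i) :=
  labMap_spec σ i

theorem labPerm_eq_iff [Finite ι] (hlab : Function.Injective lab) (σ : labStab lab hlab)
    (π : Equiv.Perm ι) :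
    labPerm hlab σ = π ↔ ∀ i, (σ : Equiv.Perm GolayPt) • lab i = lab (π i) :=
  ⟨fun h i => h ▸ labPerm_spec hlab σ i,
    fun h => Equiv.ext fun i => hlab (by rw [← labPerm_spec hlab σ i, h i])⟩

/-- Realised transpositions give all permutations. -/
theorem labPerm_surjective [Finite ι] [DecidableEq ι] (hlab : Function.Injective lab)
    (h : ∀ a b : ι, a ≠ b → ∃ g ∈ M24, ∀ i, g • lab i = lab (Equiv.swap a b i)) :
    Function.Surjective (labPerm hlab) := by
  intro π
  induction π using Equiv.Perm.swap_induction_on with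
  | one => exact ⟨1, map_one _⟩
  | swap_mul f a b hab ih =>
    obtain ⟨σ, hσ⟩ := ih
    obtain ⟨g, hg, hgs⟩ := h a b hab
    have hmem : g ∈ labStab lab hlab := ⟨hg, fun i => ⟨_, hgs i⟩⟩
    exact ⟨⟨g, hmem⟩ * σ, by rw [map_mul, hσ, (labPerm_eq_iff hlab ⟨g, hmem⟩ _).2 hgs]⟩

/-- Conjugation carries one stabiliser in `M24` onto another. -/
noncomputable def stabShift {g : Equiv.Perm GolayPt} (hg : g ∈ M24) (x : β) :
    MulAction.stabilizer M24 (g • x) ≃* MulAction.stabilizer M24 x :=
  (stabConjEquiv hg x).trans (stabEquivInf M24 x).symm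

end Cfsg.Agent.Mathieu
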