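import Cfsg.Agent.Lib.Mathieu.Stab.OctData

/-!
Data for the pointwise stabiliser of the reference octad.
-/

set_option autoImplicit false

namespace Cfsg.Agent.Mathieu

/-- A point outside the reference octad. -/
def octOutside : ℕ := 5

/-- The elements fixing the reference octad pointwise. -/
def octKernel : List ℕ := [0x17161514131211100f0e0d0c0b0a09080706050403020100,
  0xb111013140816150d090f0c170a0e120705060403020100,
  0xf1516090e06101117130b0c0d0a14050712080403020100,
  0x16170f0812130b0d1506100c110a0514070e090403020100,
  0x60e1310150f09141216080c050a110d07170b0403020100,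
  0x12130e11161714090615050c080a100b070f0d0403020100,
  0x110b0d120814170f1005150c160a061307090e0403020100,
  0x8140916110b130e0510060c120a1517070d0f0403020100,
  0x1312060b171608050e0f090c140a0d110715100403020100,
  0xe06120d0f1505081317140c090a0b100716110403020100,
  0xd10110e090515160b14170c0f0a13060708120403020100,
  0x100d0b0605090f171108160c150a120e0714130403020100,
  0x150f1705060e0d0b1612110c100a08090713140403020100,
  0x140805170b111206090d0e0c130a0f160710150403020100,
  0x905080f0d100612140b130c0e0a17150711160403020100,
  0x5091415100d0e130811120c060a160f070b170403020100]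

/-- An element fixing the reference octad pointwise and one further point fixes all points. -/
def octClose : List (List ℕ × ℕ) := [([0x46e3, 0x800c75], 6),
  ([0x1007b4, 0x8dc6], 8),
  ([0x1007b4, 0x200f68], 9),
  ([0x10f13, 0x200f68], 11),
  ([0x102e8a, 0xc02f04], 13),
  ([0x114e44, 0xa4f80], 14),
  ([0x818ea0, 0x149f00], 15),
  ([0x10f13], 16),
  ([0x2ae41], 17),
  ([0x240e85, 0x149f00], 18),
  ([0xa4f80], 19),
  ([0x149f00], 20),
  ([0x200f68], 21),
  ([0x401ed0], 22),
  ([0xc02f04], 23)]

end Cfsg.Agent.Mathieu
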