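import Cfsg.Agent.Lib.Mathieu.Stab.Covers
import Cfsg.Agent.Lib.Mathieu.Stab.OctKernelData

/-!
The stabiliser of an octad in `M24`: a regular normal subgroup on the sixteen other points,
complemented by a point stabiliser inducing the alternating group on the octad.
-/

set_option autoImplicit false
set_option maxRecDepth 20000
set_option maxHeartbeats 400000

namespace Cfsg.Agent.Mathieu

open Cfsg
open scoped Pointwise

/-- The elements of `M24` fixing every point of `o`. -/
def octFix (o : Finset GolayPt) : Subgroup (Equiv.Perm GolayPt) :=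
  M24 ⊓ fixingSubgroup (Equiv.Perm GolayPt) (o : Set GolayPt)

theorem mem_octFix {o : Finset GolayPt} {σ : Equiv.Perm GolayPt} :
    σ ∈ octFix o ↔ σ ∈ M24 ∧ ∀ x ∈ o, σ x = x := by
  simp [octFix, mem_fixingSubgroup_iff, Equiv.Perm.smul_def]

/-- The elements of `M24` fixing the octad `o` and the point `p`. -/
def octComp (o : Finset GolayPt) (p : GolayPt) : Subgroup (Equiv.Perm GolayPt) :=
  M24 ⊓ MulAction.stabilizer (Equiv.Perm GolayPt) o ⊓ MulAction.stabilizer (Equiv.Perm GolayPt) p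

theorem mem_octComp {o : Finset GolayPt} {p : GolayPt} {σ : Equiv.Perm GolayPt} :
    σ ∈ octComp o p ↔ σ ∈ M24 ∧ σ • o = o ∧ σ p = p := by
  simp [octComp, and_assoc, Equiv.Perm.smul_def]

theorem octFix_le_stab {o : Finset GolayPt} {σ : Equiv.Perm GolayPt} (h : σ ∈ octFix o) :
    σ • o = o :=
  smul_eq_of_fixed (mem_octFix.1 h).2

theorem octKernel_check :
    ((octKernel.all fun l => permOK 24 l && presCode l &&
        ((List.range 24).all fun i => !octBase.testBit i || app l i == i)) &&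
      ((List.range 24).all fun q => octBase.testBit q ||
        octKernel.any fun l => app l octOutside == q) &&
      decide (octOutside < 24) && !octBase.testBit octOutside &&
      closeOK (octBase ||| 2 ^ octOutside) octClose) = true := by
  decide +kernel

theorem octOutside_notMem : idx ptEnc octOutside ∉ ptsOf octBase := by
  decide +kernel

theorem octFix_base_map {q : GolayPt} (hq : q ∉ ptsOf octBase) :
    ∃ σ ∈ octFix (ptsOf octBase), σ (idx ptEnc octOutside) = q := by
  have h := octKernel_check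
  simp only [Bool.and_eq_true, List.all_eq_true, List.any_eq_true, Bool.or_eq_true, beq_iff_eq,
    List.mem_range, decide_eq_true_eq, Bool.not_eq_eq_eq_not, Bool.not_true] at h
  obtain ⟨⟨⟨⟨hl, hmap⟩, hlt⟩, -⟩, -⟩ := h
  rcases hmap (ptEnc q).val (ptEnc q).isLt with hb | ⟨l, hlK, happ⟩
  · exact absurd (mem_ptsOf.2 hb) hq
  obtain ⟨⟨hperm, hpres⟩, hfix⟩ := hl l hlK
  obtain ⟨σ, hσ⟩ := exists_rep (e := ptEnc) hperm
  refine ⟨σ, mem_octFix.2 ⟨mem_M24_of_rep hσ hpres, fun x hx => ?_⟩, ?_⟩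
  · have hx' : octBase.testBit (ptEnc x).val = true := mem_ptsOf.1 hx
    rcases hfix (ptEnc x).val (ptEnc x).isLt with h0 | h0
    · rw [hx'] at h0; exact absurd h0 (by simp)
    · have := hσ.apply_idx (ptEnc x).isLt
      rwa [h0, idx_self] at this
  · rw [hσ.apply_idx hlt, happ, idx_self]

theorem eq_one_of_fix_base {σ : Equiv.Perm GolayPt} (h : σ ∈ octFix (ptsOf octBase)) {p : GolayPt}
    (hp : p ∉ ptsOf octBase) (hfix : σ p = p) : σ = 1 := by
  obtain ⟨τ, hτ, rfl⟩ := octFix_base_map hp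
  have hc : τ⁻¹ * σ * τ ∈ octFix (ptsOf octBase) := mul_mem (mul_mem (inv_mem hτ) h) hτ
  have hk := octKernel_check
  simp only [Bool.and_eq_true] at hk
  have : τ⁻¹ * σ * τ = 1 := by
    refine eq_one_of_closeOK (mem_octFix.1 hc).1 _ _ hk.2 fun x hx => ?_
    rw [ptsOf_or, Finset.mem_union, ptsOf_two_pow (show octOutside < 24 by decide),
      Finset.mem_singleton] at hx
    rcases hx with hx | rfl
    · exact (mem_octFix.1 hc).2 x hx
    · show τ⁻¹ (σ (τ (idx ptEnc octOutside))) = idx ptEnc octOutside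
      rw [hfix]
      exact τ.symm_apply_apply _
  rw [mul_assoc, inv_mul_eq_one] at this
  exact mul_eq_right.1 this.symm

theorem conj_mem_octFix {g σ : Equiv.Perm GolayPt} (hg : g ∈ M24) {o : Finset GolayPt}
    (h : σ ∈ octFix o) : g * σ * g⁻¹ ∈ octFix (g • o) := by
  obtain ⟨h1, h2⟩ := mem_octFix.1 h
  refine mem_octFix.2 ⟨mul_mem (mul_mem hg h1) (inv_mem hg), fun x hx => ?_⟩
  have := h2 _ (mem_smul_pts.1 hx)
  simp only [Equiv.Perm.mul_apply, Equiv.Perm.inv_def] at this ⊢
  rw [this]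
  exact g.apply_symm_apply x

/-- Transitivity of the pointwise stabiliser of an octad outside it. -/
theorem octFix_map {o : Finset GolayPt} (ho : o ∈ octads) {p q : GolayPt} (hp : p ∉ o)
    (hq : q ∉ o) : ∃ σ ∈ octFix o, σ p = q := by
  obtain ⟨g, hg, rfl⟩ := exists_of_orbit_eq oct_cover.1 ho
  obtain ⟨τ, hτ, hτp⟩ := octFix_base_map (q := g⁻¹ p) (fun h => hp (mem_smul_pts.2 h))
  obtain ⟨ρ, hρ, hρq⟩ := octFix_base_map (q := g⁻¹ q) (fun h => hq (mem_smul_pts.2 h))
  refine ⟨g * (ρ * τ⁻¹) * g⁻¹, conj_mem_octFix hg (mul_mem hρ (inv_mem hτ)), ?_⟩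
  simp only [Equiv.Perm.mul_apply, Equiv.Perm.inv_def] at hτp hρq ⊢
  rw [← hτp, Equiv.symm_apply_apply, hρq, Equiv.apply_symm_apply]

/-- Freeness of the pointwise stabiliser of an octad outside it. -/
theorem eq_one_of_octFix {o : Finset GolayPt} (ho : o ∈ octads) {σ : Equiv.Perm GolayPt}
    (h : σ ∈ octFix o) {p : GolayPt} (hp : p ∉ o) (hfix : σ p = p) : σ = 1 := by
  obtain ⟨g, hg, rfl⟩ := exists_of_orbit_eq oct_cover.1 ho
  have hc := conj_mem_octFix (inv_mem hg) h
  rw [inv_smul_smul, inv_inv] at hc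
  have := eq_one_of_fix_base hc (p := g⁻¹ p) (fun hh => hp (mem_smul_pts.2 hh)) (by
    simp [Equiv.Perm.mul_apply, Equiv.Perm.inv_def, hfix])
  rw [mul_assoc, inv_mul_eq_one] at this
  exact mul_eq_right.1 this.symm

theorem card_octFix {o : Finset GolayPt} (ho : o ∈ octads) : Nat.card (octFix o) = 16 := by
  obtain ⟨p, hp⟩ : (oᶜ : Finset GolayPt).Nonempty := Finset.card_pos.1 (by
    rw [Finset.card_compl, octad_card ho, ← Finset.card_univ, card_univ_pts]; norm_num)
  rw [Finset.mem_compl] at hp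
  have hnot : ∀ σ ∈ octFix o, σ p ∉ o := fun σ hσ h => hp (by
    rw [← octFix_le_stab hσ] at h; exact apply_mem_smul_pts.1 h)
  let f : octFix o → {q : GolayPt // q ∈ oᶜ} := fun σ =>
    ⟨(σ : Equiv.Perm GolayPt) p, Finset.mem_compl.2 (hnot _ σ.2)⟩
  have hf : Function.Bijective f := by
    constructor
    · intro σ τ h
      have h' : (σ : Equiv.Perm GolayPt) p = (τ : Equiv.Perm GolayPt) p := congrArg Subtype.val h
      have := eq_one_of_octFix ho (mul_mem (inv_mem τ.2) σ.2) hp (by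
        simp [Equiv.Perm.mul_apply, Equiv.Perm.inv_def, h'])
      exact Subtype.ext (inv_mul_eq_one.1 this).symm
    · rintro ⟨q, hq⟩
      obtain ⟨σ, hσ, he⟩ := octFix_map ho hp (Finset.mem_compl.1 hq)
      exact ⟨⟨σ, hσ⟩, Subtype.ext he⟩
  rw [Nat.card_eq_of_bijective f hf, Nat.card_eq_finsetCard, Finset.card_compl, octad_card ho,
    ← Finset.card_univ, card_univ_pts]

theorem card_stab_octad {o : Finset GolayPt} (ho : o ∈ octads) :
    Nat.card ↥(M24 ⊓ MulAction.stabilizer (Equiv.Perm GolayPt) o) = 322560 := by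
  have h := Subgroup.index_mul_card (MulAction.stabilizer M24 o)
  have horb : MulAction.orbit M24 o = octads := by
    obtain ⟨g, hg, hgo⟩ := exists_of_orbit_eq oct_cover.1 ho
    exact (MulAction.orbit_eq_iff.2 ⟨⟨g, hg⟩, hgo⟩).trans oct_cover.1
  rw [MulAction.index_stabilizer, horb, octads_ncard, card_M24,
    Nat.card_congr (stabEquivInf M24 o).toEquiv] at h
  omega

/-- Factorisation of an element fixing the octad. -/
theorem exists_factor {o : Finset GolayPt} (ho : o ∈ octads) {p : GolayPt} (hp : p ∉ o)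
    {σ : Equiv.Perm GolayPt} (hσ : σ ∈ M24) (hσo : σ • o = o) :
    ∃ τ ∈ octFix o, τ⁻¹ * σ ∈ octComp o p := by
  obtain ⟨τ, hτ, he⟩ := octFix_map ho hp (q := σ p) (fun h => hp (by
    rw [← hσo] at h; exact apply_mem_smul_pts.1 h))
  refine ⟨τ, hτ, mem_octComp.2 ⟨mul_mem (inv_mem (mem_octFix.1 hτ).1) hσ, ?_, ?_⟩⟩
  · rw [mul_smul, hσo, inv_smul_eq_iff, octFix_le_stab hτ]
  · rw [Equiv.Perm.mul_apply, ← he, Equiv.Perm.inv_def, Equiv.symm_apply_apply]

theorem card_octComp {o : Finset GolayPt} (ho : o ∈ octads) {p : GolayPt} (hp : p ∉ o) :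
    Nat.card (octComp o p) = 20160 := by
  let f : octFix o × octComp o p → ↥(M24 ⊓ MulAction.stabilizer (Equiv.Perm GolayPt) o) := fun x =>
    ⟨x.1 * x.2, mul_mem (Subgroup.mem_inf.2 ⟨(mem_octFix.1 x.1.2).1, octFix_le_stab x.1.2⟩) x.2.2.1⟩
  have hf : Function.Bijective f := by
    constructor
    · rintro ⟨⟨a, ha⟩, ⟨b, hb⟩⟩ ⟨⟨a', ha'⟩, ⟨b', hb'⟩⟩ h
      have h' : a * b = a' * b' := congrArg Subtype.val h
      have he : a'⁻¹ * a = b' * b⁻¹ := by
        rw [eq_mul_inv_iff_mul_eq, mul_assoc, h', inv_mul_cancel_left]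
      have hfix : (a'⁻¹ * a) p = p := by
        rw [he, Equiv.Perm.mul_apply]
        conv_lhs => rw [(mem_octComp.1 (inv_mem hb)).2.2, (mem_octComp.1 hb').2.2]
      have h1 := eq_one_of_octFix ho (mul_mem (inv_mem ha') ha) hp hfix
      obtain rfl : a = a' := (inv_mul_eq_one.1 h1).symm
      obtain rfl : b = b' := mul_left_cancel h'
      rfl
    · rintro ⟨σ, hσ, hσo⟩
      obtain ⟨τ, hτ, hτσ⟩ := exists_factor ho hp hσ hσo
      exact ⟨⟨⟨τ, hτ⟩, ⟨_, hτσ⟩⟩, Subtype.ext (mul_inv_cancel_left τ σ)⟩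
  have h := Nat.card_eq_of_bijective f hf
  rw [Nat.card_prod, card_octFix ho, card_stab_octad ho] at h
  omega

theorem apply_mem_iff_of_fixed {o : Finset GolayPt} {σ : Equiv.Perm GolayPt} (h : σ • o = o)
    (x : GolayPt) : σ x ∈ o ↔ x ∈ o := by
  conv_lhs => rw [← h]
  exact apply_mem_smul_pts

/-- The action of the complement on the octad. -/
def compToPerm (o : Finset GolayPt) (p : GolayPt) : octComp o p →* Equiv.Perm ↥o where
  toFun σ := (σ : Equiv.Perm GolayPt).subtypePerm
    fun x => apply_mem_iff_of_fixed (mem_octComp.1 σ.2).2.1 x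
  map_one' := by ext x; rfl
  map_mul' _ _ := by ext x; rfl

theorem compToPerm_injective {o : Finset GolayPt} (ho : o ∈ octads) {p : GolayPt} (hp : p ∉ o) :
    Function.Injective (compToPerm o p) := by
  rw [← MonoidHom.ker_eq_bot_iff, Subgroup.eq_bot_iff_forall]
  rintro ⟨σ, hσ⟩ hk
  refine Subtype.ext (eq_one_of_octFix ho (mem_octFix.2 ⟨(mem_octComp.1 hσ).1, fun x hx => ?_⟩) hp
    (mem_octComp.1 hσ).2.2)
  exact congrArg Subtype.val (Equiv.Perm.ext_iff.1 (MonoidHom.mem_ker.1 hk) ⟨x, hx⟩)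

theorem compToPerm_range {o : Finset GolayPt} (ho : o ∈ octads) {p : GolayPt} (hp : p ∉ o) :
    (compToPerm o p).range = alternatingGroup ↥o := by
  refine Equiv.Perm.eq_alternatingGroup_of_index_eq_two ?_
  have h := (compToPerm o p).range.index_mul_card
  rw [← Nat.card_congr (MonoidHom.ofInjective (compToPerm_injective ho hp)).toEquiv,
    card_octComp ho hp, Nat.card_perm, Nat.card_eq_finsetCard, octad_card ho,
    show Nat.factorial 8 = 40320 by decide +kernel] at h
  omega

theorem octComp_equiv {o : Finset GolayPt} (ho : o ∈ octads) {p : GolayPt} (hp : p ∉ o) :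
    Nonempty (octComp o p ≃* alternatingGroup (Fin 8)) :=
  ⟨((MonoidHom.ofInjective (compToPerm_injective ho hp)).trans
    (MulEquiv.subgroupCongr (compToPerm_range ho hp))).trans
      (Equiv.altCongrHom (o.equivFinOfCardEq (octad_card ho)))⟩

end Cfsg.Agent.Mathieu
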