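import Cfsg.Agent.Lib.Mathieu.Stab.DodData

/-!
Kernel check of the certificate of `DodData`.
-/

set_option autoImplicit false
set_option maxRecDepth 20000

namespace Cfsg.Agent.Mathieu

open Cfsg
open scoped Pointwise

theorem dod_check : coverOK maskKind dodBase dodGens dodParts = true := by decide +kernel

theorem dod_sizes : (dodParts.map fun p => p.steps.length + 1).sum + 1 = 2576 := by
  decide +kernel

end Cfsg.Agent.Mathieu
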