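import Cfsg.Agent.Lib.Mathieu.Stab.OctData

/-!
Kernel check of the certificate of `OctData`.
-/

set_option autoImplicit false
set_option maxRecDepth 20000

namespace Cfsg.Agent.Mathieu

open Cfsg
open scoped Pointwise

theorem oct_check : coverOK maskKind octBase octGens octParts = true := by decide +kernel

theorem oct_sizes : (octParts.map fun p => p.steps.length + 1).sum + 1 = 759 := by
  decide +kernel

end Cfsg.Agent.Mathieu
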