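import Cfsg.Agent.Lib.Mathieu.Stab.TriadData

/-!
Kernel check of the certificate of `TriadData`.
-/

set_option autoImplicit false
set_option maxRecDepth 20000

namespace Cfsg.Agent.Mathieu

open Cfsg
open scoped Pointwise

theorem triad_check : coverOK maskKind triadBase triadGens triadParts = true := by decide +kernel

theorem triad_sizes : (triadParts.map fun p => p.steps.length + 1).sum + 1 = 2024 := by
  decide +kernel

end Cfsg.Agent.Mathieu
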