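import Cfsg.Agent.Lib.Mathieu.Stab.Common
import Cfsg.Agent.Lib.Mathieu.Stab.OctCheck
import Cfsg.Agent.Lib.Mathieu.Stab.SextCheck
import Cfsg.Agent.Lib.Mathieu.Stab.TrioCheck
import Cfsg.Agent.Lib.Mathieu.Stab.DuadCheck
import Cfsg.Agent.Lib.Mathieu.Stab.TriadCheck
import Cfsg.Agent.Lib.Mathieu.Stab.DodCheck
import Cfsg.Agent.Lib.Mathieu.Stab.DuumCheck

/-!
The orbits of `M24` on octads, sextets, trios, duads, triads, dodecads and duums, each with the
cover by the orbits of the stabiliser of a reference object.
-/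

set_option autoImplicit false
set_option maxRecDepth 20000

namespace Cfsg.Agent.Mathieu

open Cfsg
open scoped Pointwise

variable {β₀ β : Type} [MulAction (Equiv.Perm GolayPt) β]

/-- An invariant finite set with as many elements as the certificate lists is the orbit. -/
theorem cover_all {k : CertKind β₀ β} {x0 : β₀} {gens : List ℕ}
    {parts : List (OrbitPart β₀)} (h : coverOK k x0 gens parts = true) {all : Set β}
    (hfin : all.Finite) (hx : k.pts x0 ∈ all) (hinv : ∀ g ∈ M24, ∀ y ∈ all, g • y ∈ all) {N : ℕ}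
    (hsum : (parts.map fun p => p.steps.length + 1).sum + 1 = N) (hcard : all.ncard = N) :
    MulAction.orbit M24 (k.pts x0) = all ∧ StabCover (k.pts x0) (piece k parts) :=
  orbit_eq_of_cert h hfin (by rintro _ ⟨⟨g, hg⟩, rfl⟩; exact hinv g hg _ hx)
    (by rw [hcard, ← hsum, add_comm])

theorem exists_of_orbit_eq {x : β} {all : Set β} (h : MulAction.orbit M24 x = all) {X : β}
    (hX : X ∈ all) : ∃ g ∈ M24, g • x = X := by
  rw [← h] at hX
  obtain ⟨⟨g, hg⟩, he⟩ := hX
  exact ⟨g, hg, he⟩

/-- The sizes of the pieces. -/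
theorem sizes_piece {k : CertKind β₀ β} {x0 : β₀} {gens : List ℕ}
    {parts : List (OrbitPart β₀)} (h : coverOK k x0 gens parts = true) {L : List ℕ}
    (hL : (parts.map fun p => p.steps.length + 1) = L) (i : Fin parts.length) :
    (piece k parts i).ncard = L.getD i.val 0 := by
  subst hL
  rw [ncard_piece h, List.getD_eq_getElem _ _ (by simp), List.getElem_map]
  rfl

theorem ptsOf_disjoint' {a b : ℕ} (h : (a &&& b == 0) = true) : Disjoint (ptsOf a) (ptsOf b) :=
  ptsOf_disjoint (by simpa using h)

theorem maskKind_pts (m : ℕ) : maskKind.pts m = ptsOf m := rfl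

theorem famKind_pts (A : List ℕ) : famKind.pts A = famPts A := rfl

/-! ### Octads -/

theorem octBase_mem : ptsOf octBase ∈ octads :=
  ptsOf_mem_octads (by decide +kernel) (by decide +kernel)

theorem oct_cover : MulAction.orbit M24 (ptsOf octBase) = octads ∧
    StabCover (ptsOf octBase) (piece maskKind octParts) :=
  cover_all oct_check (Set.toFinite _) octBase_mem (fun _ hg _ => M24_smul_octad hg) oct_sizes
    octads_ncard

/-! ### Sextets -/

/-- Check that six masks form a sextet. -/
def sextOK (A : List ℕ) : Bool :=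
  famOK A && A.length == 6 && A.all fun a => popc 24 a == 4 &&
    A.all fun b => a == b || (inCode (a ||| b) && popc 24 (a ||| b) == 8)

theorem famPts_mem_sextets {A : List ℕ} (h : sextOK A = true) : famPts A ∈ sextets := by
  simp only [sextOK, Bool.and_eq_true, beq_iff_eq, List.all_eq_true, Bool.or_eq_true] at h
  obtain ⟨⟨hok, hlen⟩, hall⟩ := h
  refine ⟨by rw [card_famPts hok, hlen], fun t ht => ?_, fun t ht u hu hne => ?_⟩
  · obtain ⟨a, ha, rfl⟩ := mem_famPts.1 ht
    rw [card_ptsOf, (hall a ha).1]
  · obtain ⟨a, ha, rfl⟩ := mem_famPts.1 ht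
    obtain ⟨b, hb, rfl⟩ := mem_famPts.1 hu
    rcases (hall a ha).2 b hb with rfl | ⟨h1, h2⟩
    · exact absurd rfl hne
    · rw [← ptsOf_or]; exact ptsOf_mem_octads h1 h2

theorem sextBase_mem : famPts sextBase ∈ sextets := famPts_mem_sextets (by decide +kernel)

theorem sext_cover : MulAction.orbit M24 (famPts sextBase) = sextets ∧
    StabCover (famPts sextBase) (piece famKind sextParts) :=
  cover_all sext_check (Set.toFinite _) sextBase_mem (fun _ hg _ => M24_smul_sextet hg) sext_sizes
    sextets_ncard

/-! ### Trios -/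

/-- Check that three masks form a trio. -/
def trioOK (A : List ℕ) : Bool :=
  famOK A && A.length == 3 && A.all fun a => (inCode a && popc 24 a == 8) &&
    A.all fun b => a == b || a &&& b == 0

theorem famPts_mem_trios {A : List ℕ} (h : trioOK A = true) : famPts A ∈ trios := by
  simp only [trioOK, Bool.and_eq_true, beq_iff_eq, List.all_eq_true, Bool.or_eq_true] at h
  obtain ⟨⟨hok, hlen⟩, hall⟩ := h
  refine ⟨by rw [card_famPts hok, hlen], fun t ht => ?_, fun t ht u hu hne => ?_⟩
  · obtain ⟨a, ha, rfl⟩ := mem_famPts.1 ht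
    exact ptsOf_mem_octads (hall a ha).1.1 (hall a ha).1.2
  · obtain ⟨a, ha, rfl⟩ := mem_famPts.1 ht
    obtain ⟨b, hb, rfl⟩ := mem_famPts.1 hu
    rcases (hall a ha).2 b hb with rfl | h1
    · exact absurd rfl hne
    · exact ptsOf_disjoint h1

theorem trioBase_mem : famPts trioBase ∈ trios := famPts_mem_trios (by decide +kernel)

theorem trio_cover : MulAction.orbit M24 (famPts trioBase) = trios ∧
    StabCover (famPts trioBase) (piece famKind trioParts) :=
  cover_all trio_check (Set.toFinite _) trioBase_mem (fun _ hg _ => M24_smul_trio hg) trio_sizes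
    trios_ncard

/-! ### Small sets of points -/

/-- The sets of `k` points. -/
def kSets (k : ℕ) : Set (Finset GolayPt) := {s | s.card = k}

theorem kSets_ncard (k : ℕ) : (kSets k).ncard = Nat.choose 24 k := by
  have h : kSets k = ↑((Finset.univ : Finset GolayPt).powersetCard k) := by
    ext s; simp [kSets]
  rw [h, Set.ncard_coe_finset, Finset.card_powersetCard, card_univ_pts]

theorem smul_mem_kSets (k : ℕ) (g : Equiv.Perm GolayPt) {s : Finset GolayPt} (h : s ∈ kSets k) :
    g • s ∈ kSets k := (card_smul_pts g s).trans h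

theorem duadBase_mem : ptsOf duadBase ∈ kSets 2 := (card_ptsOf _).trans (by decide +kernel)

theorem duad_cover : MulAction.orbit M24 (ptsOf duadBase) = kSets 2 ∧
    StabCover (ptsOf duadBase) (piece maskKind duadParts) :=
  cover_all duad_check (Set.toFinite _) duadBase_mem (fun g _ _ h => smul_mem_kSets 2 g h)
    duad_sizes ((kSets_ncard 2).trans (by decide +kernel))

theorem triadBase_mem : ptsOf triadBase ∈ kSets 3 := (card_ptsOf _).trans (by decide +kernel)

theorem triad_cover : MulAction.orbit M24 (ptsOf triadBase) = kSets 3 ∧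
    StabCover (ptsOf triadBase) (piece maskKind triadParts) :=
  cover_all triad_check (Set.toFinite _) triadBase_mem (fun g _ _ h => smul_mem_kSets 3 g h)
    triad_sizes ((kSets_ncard 3).trans (by decide +kernel))

/-! ### Dodecads and duums -/

theorem dodBase_mem : ptsOf dodBase ∈ dodecads :=
  ptsOf_mem_dodecads (by decide +kernel) (by decide +kernel)

theorem dod_cover : MulAction.orbit M24 (ptsOf dodBase) = dodecads ∧
    StabCover (ptsOf dodBase) (piece maskKind dodParts) :=
  cover_all dod_check (Set.toFinite _) dodBase_mem (fun _ hg _ => M24_smul_dodecad hg) dod_sizes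
    dodecads_ncard

theorem duumBase_eq :
    famPts duumBase = {ptsOf dodBase, (ptsOf dodBase)ᶜ} := by decide +kernel

theorem duumBase_mem : famPts duumBase ∈ dodecadPairs :=
  ⟨_, dodBase_mem, duumBase_eq.symm⟩

theorem duum_cover : MulAction.orbit M24 (famPts duumBase) = dodecadPairs ∧
    StabCover (famPts duumBase) (piece famKind duumParts) :=
  cover_all duum_check (Set.toFinite _) duumBase_mem (fun _ hg _ => M24_smul_dodecadPair hg)
    duum_sizes dodecadPairs_ncard

end Cfsg.Agent.Mathieu

namespace Cfsg.Agent.Mathieu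

open Cfsg
open scoped Pointwise

variable {β₀ β : Type} [MulAction (Equiv.Perm GolayPt) β]

theorem ncard_smul_piece {k : CertKind β₀ β} {x0 : β₀} {gens : List ℕ}
    {parts : List (OrbitPart β₀)} (h : coverOK k x0 gens parts = true) {L : List ℕ}
    (hL : (parts.map fun p => p.steps.length + 1) = L) (g : Equiv.Perm GolayPt)
    (i : Fin parts.length) : (g • piece k parts i).ncard = L.getD i.val 0 := by
  rw [← Set.image_smul, Set.ncard_image_of_injective _ (MulAction.injective g), sizes_piece h hL]

/-- Maximality of the stabilisers of the objects of a certified orbit. -/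
theorem isCoatom_of_cert {k : CertKind β₀ β} {x0 : β₀} {gens : List ℕ}
    {parts : List (OrbitPart β₀)} (h : coverOK k x0 gens parts = true) {L : List ℕ}
    (hL : (parts.map fun p => p.steps.length + 1) = L) (hm : 0 < parts.length) {all : Set β}
    (hc : MulAction.orbit M24 (k.pts x0) = all ∧ StabCover (k.pts x0) (piece k parts)) {N : ℕ}
    (hN : all.ncard = N)
    (hdiv : ∀ J ∈ (Finset.univ : Finset (Fin parts.length)).powerset,
      1 + ∑ i ∈ J, L.getD i.val 0 ∣ N → J = ∅ ∨ J = Finset.univ)
    {X : β} (hX : X ∈ all) : IsCoatom (MulAction.stabilizer M24 X) := by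
  obtain ⟨g, hg, rfl⟩ := exists_of_orbit_eq hc.1 hX
  refine (hc.2.map hg).isCoatom hm (fun i => L.getD i.val 0) (ncard_smul_piece h hL g) ?_ hdiv
  rw [show MulAction.orbit M24 (g • k.pts x0) = MulAction.orbit M24 (k.pts x0) from
    MulAction.orbit_eq_iff.2 ⟨⟨g, hg⟩, rfl⟩, hc.1, hN]

end Cfsg.Agent.Mathieu
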