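import Mathlib
import Cfsg.Prelude.Def_Transfer

/-!
A split extension of an elementary abelian group of order 16 by all its automorphisms: the
centraliser of an involution of the normal subgroup is the centraliser of a transvection in
`SL(5, 2)`.
-/

set_option autoImplicit false

namespace Cfsg.Agent.Mathieu.AffineSL5

open scoped Matrix

theorem two_cases : ∀ c : ZMod 2, c = 0 ∨ c = 1 := by decide

/-- The indices of the linear part among five. -/
def lin : Fin 4 → Fin 5 := ![0, 2, 3, 4]

theorem lin_ne_one : ∀ i, lin i ≠ 1 := by decide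

theorem lin_inj : Function.Injective lin := by decide

theorem sum_five {M : Type*} [AddCommMonoid M] (f : Fin 5 → M) :
    ∑ k, f k = f 1 + ∑ i, f (lin i) := by
  simp [Fin.sum_univ_five, Fin.sum_univ_four, lin]
  abel

/-- The five by five matrix of an affine map. -/
def affMat (A : Matrix (Fin 4) (Fin 4) (ZMod 2)) (v : Fin 4 → ZMod 2) :
    Matrix (Fin 5) (Fin 5) (ZMod 2) :=
  Matrix.of ![![A 0 0, v 0, A 0 1, A 0 2, A 0 3], ![0, 1, 0, 0, 0],
    ![A 1 0, v 1, A 1 1, A 1 2, A 1 3], ![A 2 0, v 2, A 2 1, A 2 2, A 2 3],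
    ![A 3 0, v 3, A 3 1, A 3 2, A 3 3]]

theorem affMat_lin_lin (A : Matrix (Fin 4) (Fin 4) (ZMod 2)) (v : Fin 4 → ZMod 2) (i j : Fin 4) :
    affMat A v (lin i) (lin j) = A i j := by
  fin_cases i <;> fin_cases j <;> rfl

theorem affMat_lin_one (A : Matrix (Fin 4) (Fin 4) (ZMod 2)) (v : Fin 4 → ZMod 2) (i : Fin 4) :
    affMat A v (lin i) 1 = v i := by
  fin_cases i <;> rfl

theorem affMat_one_lin (A : Matrix (Fin 4) (Fin 4) (ZMod 2)) (v : Fin 4 → ZMod 2) (j : Fin 4) :
    affMat A v 1 (lin j) = 0 := by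
  fin_cases j <;> rfl

theorem affMat_one_one (A : Matrix (Fin 4) (Fin 4) (ZMod 2)) (v : Fin 4 → ZMod 2) :
    affMat A v 1 1 = 1 := rfl

theorem five_cases (k : Fin 5) : k = 1 ∨ ∃ i, lin i = k := by
  revert k; decide

theorem affMat_mul (A B : Matrix (Fin 4) (Fin 4) (ZMod 2)) (v w : Fin 4 → ZMod 2) :
    affMat A v * affMat B w = affMat (A * B) (v + A *ᵥ w) := by
  ext a b
  rw [Matrix.mul_apply, sum_five]
  rcases five_cases a with rfl | ⟨i, rfl⟩ <;> rcases five_cases b with rfl | ⟨j, rfl⟩
  · simp [affMat_one_one, affMat_one_lin]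
  · simp [affMat_one_lin]
  · simp [affMat_lin_one, affMat_lin_lin, affMat_one_one, Matrix.mulVec, dotProduct]
  · simp [affMat_lin_lin, affMat_one_lin, Matrix.mul_apply]

theorem affMat_one : affMat 1 0 = 1 := by decide +kernel

/-- Commuting with the transvection. -/
theorem comm_transvection_iff (M : Matrix (Fin 5) (Fin 5) (ZMod 2)) :
    M * Matrix.transvection 0 1 1 = Matrix.transvection 0 1 1 * M ↔
      ∀ i j, (if j = (1 : Fin 5) then M i 0 else 0) = (if i = (0 : Fin 5) then M 1 j else 0) := by
  rw [← Matrix.ext_iff]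
  refine forall_congr' fun i => forall_congr' fun j => ?_
  have h1 : (M * Matrix.transvection 0 1 1 : Matrix _ _ (ZMod 2)) i j =
      M i j + (if j = 1 then M i 0 else 0) := by
    by_cases h : j = 1
    · subst h; rw [Matrix.mul_transvection_apply_same, one_mul, if_pos rfl]
    · rw [Matrix.mul_transvection_apply_of_ne _ _ _ _ h, if_neg h, add_zero]
  have h2 : (Matrix.transvection 0 1 1 * M : Matrix _ _ (ZMod 2)) i j =
      M i j + (if i = 0 then M 1 j else 0) := by
    by_cases h : i = 0
    · subst h; rw [Matrix.transvection_mul_apply_same, one_mul, if_pos rfl]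
    · rw [Matrix.transvection_mul_apply_of_ne _ _ _ _ h, if_neg h, add_zero]
  rw [h1, h2, add_right_inj]

theorem sl_comm_iff {x y : Matrix.SpecialLinearGroup (Fin 5) (ZMod 2)} :
    x * y = y * x ↔ (x : Matrix (Fin 5) (Fin 5) (ZMod 2)) * (y : Matrix (Fin 5) (Fin 5) (ZMod 2)) =
      (y : Matrix (Fin 5) (Fin 5) (ZMod 2)) * (x : Matrix (Fin 5) (Fin 5) (ZMod 2)) :=
  ⟨fun h => congrArg Subtype.val h, fun h => Subtype.ext h⟩

variable {G : Type} [Group G] [Finite G]

/-- The data: a coordinate system on the normal subgroup, its automorphisms and a complement. -/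
theorem centralizer_equiv (U M : Subgroup G) [U.Normal] (hU : IsElementaryAbelian 2 U)
    (hUcard : Nat.card U = 16) (hUM : U ⊓ M = ⊥) (hUM' : U ⊔ M = ⊤)
    (hfaith : ∀ m ∈ M, (∀ u ∈ U, m * u * m⁻¹ = u) → m = 1)
    (hfull : ∀ φ : ↥U ≃* ↥U, ∃ m ∈ M, ∀ u : ↥U, ((φ u : ↥U) : G) = m * u * m⁻¹)
    {z : G} (hzU : z ∈ U) (hz : z ≠ 1) (s : Matrix.SpecialLinearGroup (Fin 5) (ZMod 2))
    (hs : (s : Matrix (Fin 5) (Fin 5) (ZMod 2)) = Matrix.transvection 0 1 1) :
    Nonempty (Subgroup.centralizer ({z} : Set G) ≃*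
      Subgroup.centralizer ({s} : Set (Matrix.SpecialLinearGroup (Fin 5) (ZMod 2)))) := by
  classical
  letI : CommGroup U := { (inferInstance : Group U) with mul_comm := hU.1.is_comm.comm }
  letI : Module (ZMod 2) (Additive U) := AddCommGroup.zmodModule (n := 2) fun x =>
    congrArg Additive.ofMul (Subtype.ext (by simpa using hU.2 x.toMul.1 x.toMul.2))
  -- coordinates
  let zu : Additive U := Additive.ofMul ⟨z, hzU⟩
  have hzu : zu ≠ 0 := fun e => hz (congrArg (fun x : Additive U => (x.toMul : G)) e)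
  have hfr : Module.finrank (ZMod 2) (Additive U) = 4 := by
    have h1 := Module.natCard_eq_pow_finrank (K := ZMod 2) (V := Additive U)
    rw [Nat.card_congr Additive.toMul, hUcard, Nat.card_zmod] at h1
    exact (Nat.pow_right_injective le_rfl (h1.symm.trans (by norm_num)))
  obtain ⟨b, hb⟩ : ∃ b : Module.Basis (Fin 4) (ZMod 2) (Additive U), b 0 = zu := by
    have hli : LinearIndepOn (ZMod 2) id ({zu} : Set (Additive U)) :=
      (linearIndepOn_singleton_iff (ZMod 2)).2 hzu
    let b0 := Module.Basis.extend hli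
    have hcard : Fintype.card ↥(hli.extend (Set.subset_univ _)) = 4 := by
      rw [← Module.finrank_eq_card_basis b0, hfr]
    let e := Fintype.equivFinOfCardEq hcard
    let z' : ↥(hli.extend (Set.subset_univ _)) := ⟨zu, hli.subset_extend _ rfl⟩
    refine ⟨b0.reindex (e.trans (Equiv.swap (e z') 0)), ?_⟩
    rw [Module.Basis.reindex_apply, Equiv.symm_trans_apply, Equiv.symm_swap, Equiv.swap_apply_right,
      Equiv.symm_apply_apply]
    exact Module.Basis.extend_apply_self hli z'
  let coord : Additive U ≃ₗ[ZMod 2] (Fin 4 → ZMod 2) := b.equivFun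
  have hcz : coord zu = Pi.single 0 1 := by
    rw [← hb]; exact funext fun i => by simp [coord, Pi.single_apply, eq_comm]
  -- linear parts
  let cj : G →* MulAut U := MulAut.conjNormal
  let lmap : G → (Fin 4 → ZMod 2) →ₗ[ZMod 2] (Fin 4 → ZMod 2) := fun g =>
    coord.toLinearMap.comp (((MonoidHom.toAdditive (cj g).toMonoidHom).toZModLinearMap 2).comp
      coord.symm.toLinearMap)
  have lmap_apply : ∀ g (u : U), lmap g (coord (Additive.ofMul u)) =
      coord (Additive.ofMul (cj g u)) := fun g u => by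
    show coord (((MonoidHom.toAdditive (cj g).toMonoidHom).toZModLinearMap 2)
      (coord.symm (coord (Additive.ofMul u)))) = _
    rw [LinearEquiv.symm_apply_apply]; rfl
  let A : G → Matrix (Fin 4) (Fin 4) (ZMod 2) := fun g => LinearMap.toMatrix' (lmap g)
  have A_apply : ∀ g (u : U), A g *ᵥ coord (Additive.ofMul u) = coord (Additive.ofMul (cj g u)) :=
    fun g u => by rw [LinearMap.toMatrix'_mulVec, lmap_apply]
  have coord_surj : ∀ w, ∃ u : U, coord (Additive.ofMul u) = w := fun w =>
    ⟨(coord.symm w).toMul, by simp⟩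
  have mat_ext : ∀ P Q : Matrix (Fin 4) (Fin 4) (ZMod 2),
      (∀ u : U, P *ᵥ coord (Additive.ofMul u) = Q *ᵥ coord (Additive.ofMul u)) → P = Q :=
    fun P Q h => Matrix.ext_of_mulVec_single fun k => by
      obtain ⟨u, hu⟩ := coord_surj (Pi.single k 1)
      rw [← hu, h u]
  have A_mul : ∀ g h, A (g * h) = A g * A h := fun g h => mat_ext _ _ fun u => by
    rw [← Matrix.mulVec_mulVec, A_apply, A_apply, A_apply, map_mul]; rfl
  have A_one : A 1 = 1 := mat_ext _ _ fun u => by
    rw [A_apply, map_one, Matrix.one_mulVec]; rfl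
  have hdec : ∀ g : G, ∃ u : U, (u : G)⁻¹ * g ∈ M := fun g => by
    have hg : g ∈ ((U ⊔ M : Subgroup G) : Set G) := by rw [hUM']; trivial
    rw [Subgroup.normal_mul] at hg
    obtain ⟨u, hu, m, hm, rfl⟩ := Set.mem_mul.mp hg
    exact ⟨⟨u, hu⟩, by rwa [inv_mul_cancel_left]⟩
  choose uof huof using hdec
  have uof_unique : ∀ g (u : U), (u : G)⁻¹ * g ∈ M → uof g = u := fun g u hu => by
    have h1 : (u : G)⁻¹ * (uof g : G) ∈ U ⊓ M := by
      refine ⟨U.mul_mem (U.inv_mem u.2) (uof g).2, ?_⟩
      have := M.mul_mem hu (M.inv_mem (huof g))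
      simpa [mul_assoc] using this
    rw [hUM, Subgroup.mem_bot, inv_mul_eq_one] at h1
    exact Subtype.ext h1.symm
  have uof_mul : ∀ g h, uof (g * h) = uof g * cj g (uof h) := fun g h => by
    refine uof_unique _ _ ?_
    have hcomm : (uof g : G)⁻¹ * ((cj g (uof h) : U) : G)⁻¹ =
        ((cj g (uof h) : U) : G)⁻¹ * (uof g : G)⁻¹ := by
      have := congrArg Subtype.val (mul_comm (uof g)⁻¹ (cj g (uof h))⁻¹)
      simpa using this
    have hval : ((cj g (uof h) : U) : G) = g * (uof h : G) * g⁻¹ := MulAut.conjNormal_apply _ _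
    have he : ((uof g * cj g (uof h) : U) : G)⁻¹ * (g * h) =
        ((uof g : G)⁻¹ * g) * ((uof h : G)⁻¹ * h) := by
      rw [Subgroup.coe_mul, mul_inv_rev, ← hcomm, hval]
      group
    rw [he]
    exact M.mul_mem (huof g) (huof h)
  let θm : G →* Matrix (Fin 5) (Fin 5) (ZMod 2) :=
    { toFun := fun g => affMat (A g) (coord (Additive.ofMul (uof g)))
      map_one' := by
        rw [A_one, show uof 1 = 1 from uof_unique 1 1 (by simp), ofMul_one, map_zero, affMat_one]
      map_mul' := fun g h => by
        rw [affMat_mul, A_mul, uof_mul, ofMul_mul, map_add, A_apply] }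
  have θdet : ∀ g, (θm g).det = 1 := fun g => by
    have h1 : (θm g).det * (θm g⁻¹).det = 1 := by
      rw [← Matrix.det_mul, ← map_mul, mul_inv_cancel, map_one, Matrix.det_one]
    rcases two_cases (θm g).det with h | h
    · simp [h] at h1
    · exact h
  let θ : G →* Matrix.SpecialLinearGroup (Fin 5) (ZMod 2) :=
    { toFun := fun g => ⟨θm g, θdet g⟩
      map_one' := Subtype.ext (map_one θm)
      map_mul' := fun g h => Subtype.ext (map_mul θm g h) }
  have cj_of_A : ∀ g, A g = 1 → ∀ u : U, cj g u = u := fun g hg u => by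
    have := A_apply g u
    rw [hg, Matrix.one_mulVec] at this
    exact Additive.ofMul.injective (coord.injective this.symm)
  have θinj : Function.Injective θ := by
    rw [injective_iff_map_eq_one]
    intro g hg
    have hm : affMat (A g) (coord (Additive.ofMul (uof g))) = 1 := congrArg Subtype.val hg
    have hA : A g = 1 := by
      ext i j
      rw [← affMat_lin_lin (A g) (coord (Additive.ofMul (uof g))), hm, Matrix.one_apply,
        Matrix.one_apply]
      exact if_congr lin_inj.eq_iff rfl rfl
    have hu : uof g = 1 := by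
      refine Additive.ofMul.injective (coord.injective ?_)
      rw [ofMul_one, map_zero]
      funext i
      rw [← affMat_lin_one (A g) (coord (Additive.ofMul (uof g))), hm,
        Matrix.one_apply_ne (lin_ne_one i)]
      rfl
    have hgM : g ∈ M := by have := huof g; rw [hu] at this; simpa using this
    refine hfaith g hgM fun u hu => ?_
    have := congrArg Subtype.val (cj_of_A g hA ⟨u, hu⟩)
    rwa [show ((cj g ⟨u, hu⟩ : U) : G) = g * u * g⁻¹ from MulAut.conjNormal_apply _ _] at this
  have hmem : ∀ g, θ g ∈ Subgroup.centralizer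
      ({s} : Set (Matrix.SpecialLinearGroup (Fin 5) (ZMod 2))) ↔
      g ∈ Subgroup.centralizer ({z} : Set G) := by
    intro g
    have hA0 : g * z = z * g ↔ ∀ i, A g i 0 = if i = 0 then 1 else 0 := by
      have hcol : A g *ᵥ coord zu = fun i => A g i 0 := by
        rw [hcz, Matrix.mulVec_single_one]; rfl
      constructor
      · intro h i
        have : cj g ⟨z, hzU⟩ = ⟨z, hzU⟩ := Subtype.ext (by
          rw [show ((cj g ⟨z, hzU⟩ : U) : G) = g * z * g⁻¹ from MulAut.conjNormal_apply _ _, h,
            mul_inv_cancel_right])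
        have h2 := congrFun (hcol.symm.trans ((A_apply g ⟨z, hzU⟩).trans
          ((congrArg (fun u => coord (Additive.ofMul u)) this).trans hcz))) i
        rw [h2, Pi.single_apply]
      · intro h
        have h2 : coord (Additive.ofMul (cj g ⟨z, hzU⟩)) = coord zu := by
          rw [← A_apply]
          exact hcol.trans (by rw [hcz]; funext i; rw [h i, Pi.single_apply])
        have h3 := congrArg Subtype.val (Additive.ofMul.injective (coord.injective h2))
        rw [show ((cj g ⟨z, hzU⟩ : U) : G) = g * z * g⁻¹ from MulAut.conjNormal_apply _ _] at h3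
        exact mul_inv_eq_iff_eq_mul.1 h3
    rw [Subgroup.mem_centralizer_singleton_iff, Subgroup.mem_centralizer_singleton_iff, hA0,
      sl_comm_iff, hs, comm_transvection_iff]
    show (∀ a b, (if b = (1 : Fin 5) then affMat (A g) (coord (Additive.ofMul (uof g))) a 0 else 0) =
      if a = (0 : Fin 5) then affMat (A g) (coord (Additive.ofMul (uof g))) 1 b else 0) ↔ _
    have hl0 : (0 : Fin 5) = lin 0 := rfl
    constructor
    · intro h i
      have := h (lin i) 1
      rw [if_pos rfl, hl0, affMat_lin_lin, affMat_one_one] at this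
      rw [this]
      exact if_congr lin_inj.eq_iff rfl rfl
    · intro h a b
      rcases five_cases b with rfl | ⟨j, rfl⟩
      · rw [if_pos rfl, affMat_one_one, hl0]
        rcases five_cases a with rfl | ⟨i, rfl⟩
        · rw [affMat_one_lin, if_neg (by decide)]
        · rw [affMat_lin_lin, h i]
          exact if_congr lin_inj.eq_iff.symm rfl rfl
      · rw [if_neg (lin_ne_one j), affMat_one_lin, ite_self]
  have hsurj : ∀ x ∈ Subgroup.centralizer
      ({s} : Set (Matrix.SpecialLinearGroup (Fin 5) (ZMod 2))), ∃ g, θ g = x := by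
    intro x hx
    have hrow : ∀ y ∈ Subgroup.centralizer ({s} : Set (Matrix.SpecialLinearGroup (Fin 5) (ZMod 2))),
        ∀ j, (y : Matrix (Fin 5) (Fin 5) (ZMod 2)) 1 (lin j) = 0 := by
      intro y hy j
      rw [Subgroup.mem_centralizer_singleton_iff, sl_comm_iff, hs, comm_transvection_iff] at hy
      have := hy 0 (lin j)
      rw [if_neg (lin_ne_one j), if_pos rfl] at this
      exact this.symm
    have h11 : (x : Matrix (Fin 5) (Fin 5) (ZMod 2)) 1 1 = 1 := by
      rcases two_cases ((x : Matrix (Fin 5) (Fin 5) (ZMod 2)) 1 1) with h | h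
      · exfalso
        have hdet := x.2
        rw [Matrix.det_eq_zero_of_row_eq_zero (1 : Fin 5) fun k => ?_] at hdet
        · exact zero_ne_one hdet
        · rcases five_cases k with rfl | ⟨j, rfl⟩
          exacts [h, hrow x hx j]
      · exact h
    let sub : Matrix.SpecialLinearGroup (Fin 5) (ZMod 2) → Matrix (Fin 4) (Fin 4) (ZMod 2) :=
      fun y i j => (y : Matrix (Fin 5) (Fin 5) (ZMod 2)) (lin i) (lin j)
    have sub_mul : ∀ y w, w ∈ Subgroup.centralizer
        ({s} : Set (Matrix.SpecialLinearGroup (Fin 5) (ZMod 2))) → sub y * sub w = sub (y * w) := by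
      intro y w hw
      ext i j
      show _ = ((y * w : Matrix.SpecialLinearGroup (Fin 5) (ZMod 2)) :
        Matrix (Fin 5) (Fin 5) (ZMod 2)) (lin i) (lin j)
      rw [Matrix.SpecialLinearGroup.coe_mul, Matrix.mul_apply, Matrix.mul_apply, sum_five,
        hrow w hw j, mul_zero, zero_add]
    have sub_one : sub 1 = 1 := by
      ext i j
      show (1 : Matrix (Fin 5) (Fin 5) (ZMod 2)) (lin i) (lin j) = _
      rw [Matrix.one_apply, Matrix.one_apply]
      exact if_congr lin_inj.eq_iff rfl rfl
    have h12 : sub x * sub x⁻¹ = 1 := by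
      rw [sub_mul _ _ (inv_mem hx), mul_inv_cancel, sub_one]
    have h21 : sub x⁻¹ * sub x = 1 := by
      rw [sub_mul _ _ hx, inv_mul_cancel, sub_one]
    let φ : U ≃* U :=
      { toFun := fun u => (coord.symm (sub x *ᵥ coord (Additive.ofMul u))).toMul
        invFun := fun u => (coord.symm (sub x⁻¹ *ᵥ coord (Additive.ofMul u))).toMul
        left_inv := fun u => by simp [Matrix.mulVec_mulVec, h21]
        right_inv := fun u => by simp [Matrix.mulVec_mulVec, h12]
        map_mul' := fun a b => by
          rw [ofMul_mul, map_add, Matrix.mulVec_add, map_add, toMul_add] }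
    obtain ⟨m, hmM, hm⟩ := hfull φ
    obtain ⟨u, hu⟩ := coord_surj fun i => (x : Matrix (Fin 5) (Fin 5) (ZMod 2)) (lin i) 1
    refine ⟨(u : G) * m, Subtype.ext ?_⟩
    have huof' : uof ((u : G) * m) = u := uof_unique _ _ (by rwa [inv_mul_cancel_left])
    have hAu : A ((u : G) * m) = sub x := by
      refine mat_ext _ _ fun w => ?_
      have hfix : cj (u : G) = 1 := MulEquiv.ext fun v => Subtype.ext (by
        rw [MulAut.conjNormal_apply]
        have h := congrArg Subtype.val (hU.1.is_comm.comm u v)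
        simp only [Subgroup.coe_mul] at h
        rw [h, mul_inv_cancel_right]; rfl)
      rw [A_apply, map_mul, hfix, one_mul, show cj m w = φ w from
        Subtype.ext ((MulAut.conjNormal_apply _ _).trans (hm w).symm)]
      simp [φ]
    show affMat (A ((u : G) * m)) (coord (Additive.ofMul (uof ((u : G) * m)))) = _
    rw [hAu, huof', hu]
    ext a b
    rcases five_cases a with rfl | ⟨i, rfl⟩ <;> rcases five_cases b with rfl | ⟨j, rfl⟩
    · rw [affMat_one_one, h11]
    · rw [affMat_one_lin, hrow x hx j]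
    · rw [affMat_lin_one]
    · rw [affMat_lin_lin]
  exact ⟨MulEquiv.ofBijective ((θ.comp (Subgroup.centralizer ({z} : Set G)).subtype).codRestrict _
      fun g => (hmem g.1).2 g.2)
    ⟨fun a b h => Subtype.ext (θinj (congrArg Subtype.val h)), fun x => by
      obtain ⟨g, hg⟩ := hsurj x.1 x.2
      exact ⟨⟨g, (hmem g).1 (hg ▸ x.2)⟩, Subtype.ext hg⟩⟩⟩

end Cfsg.Agent.Mathieu.AffineSL5
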