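import Cfsg.Agent.Lib.Mathieu.Stab.Covers

/-!
An equivariant invariant of pairs of objects that separates the stabiliser orbits of a reference
object classifies the pairs of objects of the whole orbit.
-/

set_option autoImplicit false

namespace Cfsg.Agent.Mathieu

open Cfsg
open scoped Pointwise

/-- The invariant `F` takes the values `v` on the pieces of the cover of the orbit `all` of `x`,
and the value `v₀` at `x`; these are all different. -/
structure Separated {β : Type} [MulAction (Equiv.Perm GolayPt) β] (F : β → β → ℕ) (x : β)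
    (all : Set β) {m : ℕ} (P : Fin m → Set β) (v : Fin m → ℕ) (v₀ : ℕ) : Prop where
  orbit : MulAction.orbit M24 x = all
  cover : StabCover x P
  equivariant : ∀ g ∈ M24, ∀ a b, F (g • a) (g • b) = F a b
  value : ∀ i, ∃ y ∈ P i, F x y = v i
  value₀ : F x x = v₀
  inj : Function.Injective v
  notMem : ∀ i, v i ≠ v₀

variable {β : Type} [MulAction (Equiv.Perm GolayPt) β] {F : β → β → ℕ} {x : β} {all : Set β}
  {m : ℕ} {P : Fin m → Set β} {v : Fin m → ℕ} {v₀ : ℕ}

theorem Separated.inv_stab (hS : Separated F x all P v v₀) {h : Equiv.Perm GolayPt}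
    (hh : h ∈ M24 ⊓ MulAction.stabilizer (Equiv.Perm GolayPt) x) (y : β) :
    F x (h • y) = F x y := by
  conv_lhs => rw [← MulAction.mem_stabilizer_iff.1 hh.2]
  exact hS.equivariant h hh.1 x y

theorem Separated.value_of_mem (hS : Separated F x all P v v₀) {i : Fin m} {y : β} (hy : y ∈ P i) :
    F x y = v i := by
  obtain ⟨z, hz, he⟩ := hS.value i
  obtain ⟨h, hh, rfl⟩ := hS.cover.pair i z hz y hy
  rw [hS.inv_stab hh, he]

/-- The invariant is moved along `M24`. -/
theorem Separated.map (hS : Separated F x all P v v₀) {g : Equiv.Perm GolayPt} (hg : g ∈ M24) :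
    Separated F (g • x) all (fun i => g • P i) v v₀ where
  orbit := (MulAction.orbit_eq_iff.2 ⟨⟨g, hg⟩, rfl⟩).trans hS.orbit
  cover := hS.cover.map hg
  equivariant := hS.equivariant
  value i := by
    obtain ⟨y, hy, he⟩ := hS.value i
    exact ⟨g • y, Set.smul_mem_smul_set hy, by rw [hS.equivariant g hg, he]⟩
  value₀ := by rw [hS.equivariant g hg, hS.value₀]
  inj := hS.inj
  notMem := hS.notMem

/-- Every object of the orbit can serve as the reference object. -/
theorem Separated.at (hS : Separated F x all P v v₀) {X : β} (hX : X ∈ all) :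
    ∃ g ∈ M24, g • x = X ∧ Separated F X all (fun i => g • P i) v v₀ := by
  obtain ⟨g, hg, rfl⟩ := exists_of_orbit_eq hS.orbit hX
  exact ⟨g, hg, rfl, hS.map hg⟩

theorem Separated.cases (hS : Separated F x all P v v₀) {y : β} (hy : y ∈ all) :
    (y = x ∧ F x y = v₀) ∨ ∃ i, y ∈ P i ∧ F x y = v i := by
  rw [← hS.orbit] at hy
  rcases (hS.cover.mem_orbit y).1 hy with rfl | ⟨i, hi⟩
  · exact Or.inl ⟨rfl, hS.value₀⟩
  · exact Or.inr ⟨i, hi, hS.value_of_mem hi⟩

theorem Separated.fiber (hS : Separated F x all P v v₀) (i : Fin m) :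
    {y | y ∈ all ∧ F x y = v i} = P i := by
  ext y
  refine ⟨fun ⟨hy, he⟩ => ?_, fun hy => ⟨?_, hS.value_of_mem hy⟩⟩
  · rcases hS.cases hy with ⟨-, h⟩ | ⟨j, hj, h⟩
    · exact absurd (he.symm.trans h) (hS.notMem i)
    · exact hS.inj (he.symm.trans h) ▸ hj
  · rw [← hS.orbit]; exact (hS.cover.mem_orbit y).2 (Or.inr ⟨i, hy⟩)

/-- Equal values of the invariant mean the same orbit of the stabiliser. -/
theorem Separated.exists_map (hS : Separated F x all P v v₀) {y z : β} (hy : y ∈ all)
    (hz : z ∈ all) (h : F x y = F x z) : ∃ g ∈ M24, g • x = x ∧ g • y = z := by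
  rcases hS.cases hy with ⟨rfl, hy'⟩ | ⟨i, hi, hy'⟩ <;>
    rcases hS.cases hz with ⟨hzx, hz'⟩ | ⟨j, hj, hz'⟩
  · exact ⟨1, one_mem _, one_smul _ _, by rw [one_smul, hzx]⟩
  · exact absurd (hz'.symm.trans (h.symm.trans hy')) (hS.notMem j)
  · exact absurd (hy'.symm.trans (h.trans hz')) (hS.notMem i)
  · obtain rfl : i = j := hS.inj (hy'.symm.trans (h.trans hz'))
    obtain ⟨g, hg, he⟩ := hS.cover.pair i y hi z hj
    exact ⟨g, hg.1, MulAction.mem_stabilizer_iff.1 hg.2, he⟩

theorem Separated.orbit_eq (hS : Separated F x all P v v₀) (i : Fin m) {y : β} (hy : y ∈ P i) :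
    MulAction.orbit (MulAction.stabilizer M24 x) y = P i :=
  hS.cover.orbit_eq (F x) (fun _ hh z => hS.inv_stab hh z) v
    (fun _ _ hz => hS.value_of_mem hz) hS.inj i hy

/-- Heads of certified pieces give the values. -/
theorem separated_of_cert {β₀ : Type} {k : CertKind β₀ β} {x0 : β₀}
    {parts : List (OrbitPart β₀)} {F : β → β → ℕ} {all : Set β}
    (hc : MulAction.orbit M24 (k.pts x0) = all ∧ StabCover (k.pts x0) (piece k parts))
    (hF : ∀ g ∈ M24, ∀ a b, F (g • a) (g • b) = F a b) {v : Fin parts.length → ℕ} {v₀ : ℕ}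
    (hv : ∀ i, F (k.pts x0) (k.pts (parts.get i).head) = v i) (h₀ : F (k.pts x0) (k.pts x0) = v₀)
    (hinj : Function.Injective v) (hne : ∀ i, v i ≠ v₀) :
    Separated F (k.pts x0) all (piece k parts) v v₀ :=
  ⟨hc.1, hc.2, hF, fun i => ⟨_, head_mem_piece k parts i, hv i⟩, h₀, hinj, hne⟩

end Cfsg.Agent.Mathieu
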