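import Cfsg.Agent.Lib.Mathieu.Stab.Labelled

/-!
The action of the stabiliser in `M24` of a family of sets on the members of the family.
-/

set_option autoImplicit false
set_option maxRecDepth 20000

namespace Cfsg.Agent.Mathieu

open Cfsg
open scoped Pointwise

/-- The elements of `M24` fixing each member of a family. -/
def famFix (S : Finset (Finset GolayPt)) : Subgroup (Equiv.Perm GolayPt) where
  carrier := {σ | σ ∈ M24 ∧ ∀ t ∈ S, σ • t = t}
  one_mem' := ⟨one_mem _, fun _ _ => one_smul _ _⟩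
  mul_mem' := by
    rintro σ τ ⟨h1, h2⟩ ⟨h3, h4⟩
    exact ⟨mul_mem h1 h3, fun t ht => by rw [mul_smul, h4 t ht, h2 t ht]⟩
  inv_mem' := by
    rintro σ ⟨h1, h2⟩
    exact ⟨inv_mem h1, fun t ht => by rw [inv_smul_eq_iff, h2 t ht]⟩

theorem mem_famFix {S : Finset (Finset GolayPt)} {σ : Equiv.Perm GolayPt} :
    σ ∈ famFix S ↔ σ ∈ M24 ∧ ∀ t ∈ S, σ • t = t := Iff.rfl

theorem famFix_le {S : Finset (Finset GolayPt)} {σ : Equiv.Perm GolayPt} (h : σ ∈ famFix S) :
    σ • S = S := by
  ext t
  rw [Finset.mem_smul_finset]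
  exact ⟨fun ⟨u, hu, he⟩ => by rw [← he, h.2 u hu]; exact hu, fun ht => ⟨t, ht, h.2 t ht⟩⟩

theorem smul_mem_of_stab {S : Finset (Finset GolayPt)} (g : MulAction.stabilizer M24 S)
    {t : Finset GolayPt} (ht : t ∈ S) : ((g : M24) : Equiv.Perm GolayPt) • t ∈ S := by
  have h : ((g : M24) : Equiv.Perm GolayPt) • S = S := g.2
  have h' := Finset.smul_mem_smul_finset (a := ((g : M24) : Equiv.Perm GolayPt)) ht
  rwa [h] at h'

/-- The stabiliser as elements permuting the members. -/
def famIncl (S : Finset (Finset GolayPt)) :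
    MulAction.stabilizer M24 S →*
      labStab (fun t : ↥S => (t : Finset GolayPt)) Subtype.val_injective where
  toFun g := ⟨((g : M24) : Equiv.Perm GolayPt),
    (g : M24).2, fun t => ⟨⟨_, smul_mem_of_stab g t.2⟩, rfl⟩⟩
  map_one' := rfl
  map_mul' _ _ := rfl

/-- The stabiliser of a family permutes its members. -/
noncomputable def famPerm (S : Finset (Finset GolayPt)) :
    MulAction.stabilizer M24 S →* Equiv.Perm ↥S :=
  (labPerm (lab := fun t : ↥S => (t : Finset GolayPt)) Subtype.val_injective).comp (famIncl S)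

theorem famPerm_spec {S : Finset (Finset GolayPt)} (g : MulAction.stabilizer M24 S) (t : ↥S) :
    ((g : M24) : Equiv.Perm GolayPt) • (t : Finset GolayPt) = ((famPerm S g t : ↥S) : Finset GolayPt) :=
  labPerm_spec (lab := fun t : ↥S => (t : Finset GolayPt)) Subtype.val_injective (famIncl S g) t

theorem mem_ker_famPerm {S : Finset (Finset GolayPt)} {g : MulAction.stabilizer M24 S} :
    g ∈ (famPerm S).ker ↔ ∀ t ∈ S, ((g : M24) : Equiv.Perm GolayPt) • t = t := by
  rw [MonoidHom.mem_ker]
  constructor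
  · intro h t ht
    have := famPerm_spec g ⟨t, ht⟩
    rwa [h] at this
  · intro h
    exact Equiv.ext fun t => Subtype.ext (by rw [← famPerm_spec, h t t.2]; rfl)

/-- The fixing elements inside the stabiliser. -/
def famFixEquiv (S : Finset (Finset GolayPt)) :
    {g : MulAction.stabilizer M24 S // ∀ t ∈ S, ((g : M24) : Equiv.Perm GolayPt) • t = t} ≃
      famFix S where
  toFun g := ⟨((g.1 : M24) : Equiv.Perm GolayPt), (g.1 : M24).2, g.2⟩
  invFun σ := ⟨⟨⟨σ.1, σ.2.1⟩, famFix_le σ.2⟩, σ.2.2⟩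
  left_inv _ := rfl
  right_inv _ := rfl

/-- Any two members of the family can be exchanged fixing the others. -/
def Swappable (S : Finset (Finset GolayPt)) : Prop :=
  ∀ a ∈ S, ∀ b ∈ S, a ≠ b → ∃ g ∈ M24, ∀ c ∈ S, g • c = Equiv.swap a b c

theorem Swappable.smul {S : Finset (Finset GolayPt)} (h : Swappable S) {k : Equiv.Perm GolayPt}
    (hk : k ∈ M24) : Swappable (k • S) := by
  intro a' ha' b' hb' hne
  obtain ⟨a, ha, rfl⟩ := Finset.mem_smul_finset.1 ha'
  obtain ⟨b, hb, rfl⟩ := Finset.mem_smul_finset.1 hb'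
  obtain ⟨g, hg, hgs⟩ := h a ha b hb fun e => hne (e ▸ rfl)
  refine ⟨k * g * k⁻¹, mul_mem (mul_mem hk hg) (inv_mem hk), fun c' hc' => ?_⟩
  obtain ⟨c, hc, rfl⟩ := Finset.mem_smul_finset.1 hc'
  rw [mul_smul, mul_smul, inv_smul_smul, hgs c hc]
  exact ((MulAction.injective k).swap_apply a b c).symm

theorem Swappable.surjective {S : Finset (Finset GolayPt)} (h : Swappable S) :
    Function.Surjective (famPerm S) := by
  intro π
  obtain ⟨⟨σ, hσ⟩, rfl⟩ := labPerm_surjective (lab := fun t : ↥S => (t : Finset GolayPt))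
    Subtype.val_injective (fun a b hab => by
      obtain ⟨g, hg, hgs⟩ := h a a.2 b b.2 fun e => hab (Subtype.ext e)
      refine ⟨g, hg, fun i => ?_⟩
      rw [hgs i i.2]
      exact (Subtype.val_injective.swap_apply a b i)) π
  have hS : σ • S = S := by
    refine Finset.eq_of_subset_of_card_le (fun x hx => ?_) (Finset.card_smul_finset σ S).ge
    obtain ⟨t, ht, rfl⟩ := Finset.mem_smul_finset.1 hx
    obtain ⟨u, hu⟩ := hσ.2 ⟨t, ht⟩
    exact hu ▸ u.2
  exact ⟨⟨⟨σ, hσ.1⟩, hS⟩, rfl⟩

/-- The order of the fixing subgroup. -/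
theorem Swappable.card_famFix {S : Finset (Finset GolayPt)} (h : Swappable S) :
    Nat.card (famFix S) * (S.card).factorial = Nat.card (MulAction.stabilizer M24 S) := by
  have h1 := (famPerm S).ker.index_mul_card
  rw [Subgroup.index_ker, MonoidHom.range_eq_top.2 h.surjective, Subgroup.card_top, Nat.card_perm,
    Nat.card_eq_finsetCard] at h1
  rw [← h1, mul_comm, ← Nat.card_congr (famFixEquiv S)]
  congr 1
  exact Nat.card_congr (Equiv.subtypeEquivRight fun g => (mem_ker_famPerm (g := g)).symm)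

theorem Swappable.induces {S : Finset (Finset GolayPt)} (h : Swappable S) (e : Equiv.Perm ↥S) :
    ∃ g ∈ MulAction.stabilizer M24 S, ∀ t : ↥S,
      (g : Equiv.Perm GolayPt) • (t : Finset GolayPt) = ((e t : ↥S) : Finset GolayPt) := by
  obtain ⟨g, rfl⟩ := h.surjective e
  exact ⟨g, g.2, fun t => famPerm_spec g t⟩

/-- Check that the listed elements exchange any two of the listed masks. -/
def swapsOK (A sw : List ℕ) : Bool :=
  A.all fun a => A.all fun b => a == b || sw.any fun l => permOK 24 l && presCode l &&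
    A.all fun c => mapsMask l c (if c == a then b else if c == b then a else c)

theorem swappable_of_swapsOK {A sw : List ℕ} (hA : famOK A = true) (h : swapsOK A sw = true) :
    Swappable (famPts A) := by
  obtain ⟨hlt, -⟩ := famOK_spec hA
  intro x hx y hy hne
  obtain ⟨a, ha, rfl⟩ := mem_famPts.1 hx
  obtain ⟨b, hb, rfl⟩ := mem_famPts.1 hy
  simp only [swapsOK, List.all_eq_true, Bool.or_eq_true, beq_iff_eq, List.any_eq_true,
    Bool.and_eq_true] at h
  rcases h a ha b hb with rfl | ⟨l, -, ⟨hperm, hpres⟩, hmap⟩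
  · exact absurd rfl hne
  refine ⟨decode l, mem_M24_of_rep (rep_decode hperm) hpres, fun z hz => ?_⟩
  obtain ⟨c, hc, rfl⟩ := mem_famPts.1 hz
  rw [smul_ptsOf (rep_decode hperm) (hmap c hc)]
  by_cases h1 : c = a
  · simp [h1]
  by_cases h2 : c = b
  · subst h2; simp [h1]
  rw [if_neg h1, if_neg h2, Equiv.swap_apply_of_ne_of_ne
    (fun e => h1 (ptsOf_inj (hlt c hc) (hlt a ha) e))
    (fun e => h2 (ptsOf_inj (hlt c hc) (hlt b hb) e))]

/-- Check that a packed element fixes each listed mask. -/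
def fixesAll (A : List ℕ) (l : ℕ) : Bool := A.all fun a => mapsMask l a a

theorem decode_mem_famFix {A : List ℕ} {l : ℕ} (hl : permOK 24 l = true ∧ decode l ∈ M24)
    (h : fixesAll A l = true) : decode l ∈ famFix (famPts A) := by
  refine ⟨hl.2, fun t ht => ?_⟩
  obtain ⟨a, ha, rfl⟩ := mem_famPts.1 ht
  exact smul_ptsOf (rep_decode hl.1) (List.all_eq_true.1 h a ha)

theorem card_stabilizer_of_orbit {β : Type} [MulAction (Equiv.Perm GolayPt) β] {x : β}
    {all : Set β} (h : MulAction.orbit M24 x = all) :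
    all.ncard * Nat.card (MulAction.stabilizer M24 x) = 244823040 := by
  rw [← h, ← MulAction.index_stabilizer, Subgroup.index_mul_card, card_M24]

end Cfsg.Agent.Mathieu
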