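import Cfsg.Agent.Lib.Mathieu.Stab.Classify

/-!
The separating invariants for pairs of octads, dodecads, triads, sextets and trios.
-/

set_option autoImplicit false
set_option maxRecDepth 20000

namespace Cfsg.Agent.Mathieu

open Cfsg
open scoped Pointwise

/-- Size of the common part of two sets of points. -/
def interCard (a b : Finset GolayPt) : ℕ := (a ∩ b).card

theorem interCard_smul (g : Equiv.Perm GolayPt) (a b : Finset GolayPt) :
    interCard (g • a) (g • b) = interCard a b := card_smul_inter g a b

theorem oct_separated : Separated interCard (ptsOf octBase) octads (piece maskKind octParts)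
    (fun i => [0, 4, 2].getD i.val 0) 8 :=
  separated_of_cert (k := maskKind) oct_cover (fun g _ => interCard_smul g) (by decide +kernel)
    (by decide +kernel) (by decide +kernel) (by decide +kernel)

theorem dod_separated : Separated interCard (ptsOf dodBase) dodecads (piece maskKind dodParts)
    (fun i => [0, 8, 4, 6].getD i.val 0) 12 :=
  separated_of_cert (k := maskKind) dod_cover (fun g _ => interCard_smul g) (by decide +kernel)
    (by decide +kernel) (by decide +kernel) (by decide +kernel)

/-- Third moment of the sizes of the common parts of members of two families. -/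
def famMoment (A B : Finset (Finset GolayPt)) : ℕ := ∑ t ∈ A, ∑ u ∈ B, (t ∩ u).card ^ 3

theorem famMoment_smul (g : Equiv.Perm GolayPt) (A B : Finset (Finset GolayPt)) :
    famMoment (g • A) (g • B) = famMoment A B := by
  unfold famMoment
  show ∑ t ∈ A.image (g • ·), ∑ u ∈ B.image (g • ·), (t ∩ u).card ^ 3 = _
  rw [Finset.sum_image fun _ _ _ _ h => MulAction.injective g h]
  refine Finset.sum_congr rfl fun t _ => ?_
  rw [Finset.sum_image fun _ _ _ _ h => MulAction.injective g h]
  exact Finset.sum_congr rfl fun u _ => by rw [card_smul_inter]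

theorem sext_separated : Separated famMoment (famPts sextBase) sextets (piece famKind sextParts)
    (fun i => [96, 72, 48].getD i.val 0) 384 :=
  separated_of_cert (k := famKind) sext_cover (fun g _ => famMoment_smul g) (by decide +kernel)
    (by decide +kernel) (by decide +kernel) (by decide +kernel)

theorem trio_separated : Separated famMoment (famPts trioBase) trios (piece famKind trioParts)
    (fun i => [768, 384, 288, 240].getD i.val 0) 1536 :=
  separated_of_cert (k := famKind) trio_cover (fun g _ => famMoment_smul g) (by decide +kernel)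
    (by decide +kernel) (by decide +kernel) (by decide +kernel)

/-- Lying in a common octad. -/
def InOctad (s : Finset GolayPt) : Prop := ∃ o ∈ octads, s ⊆ o

theorem inOctad_iff {m : ℕ} (hm : m < 2 ^ 24) :
    InOctad (ptsOf m) ↔ (maskList 8).any (fun a => a &&& m == m) = true := by
  simp only [InOctad, List.any_eq_true, beq_iff_eq]
  constructor
  · rintro ⟨o, ho, hs⟩
    obtain ⟨a, ha, rfl⟩ := mem_octads_iff.1 ho
    refine ⟨a, ha, ptsOf_inj (Nat.lt_of_le_of_lt Nat.and_le_right hm) hm ?_⟩
    rw [ptsOf_and, Finset.inter_eq_right.2 hs]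
  · rintro ⟨a, ha, he⟩
    exact ⟨ptsOf a, mem_octads_iff.2 ⟨a, ha, rfl⟩, fun p hp => by
      rw [← he, ptsOf_and] at hp; exact (Finset.mem_inter.1 hp).1⟩

theorem inOctad_smul {g : Equiv.Perm GolayPt} (hg : g ∈ M24) {s : Finset GolayPt} :
    InOctad (g • s) ↔ InOctad s := by
  constructor <;> rintro ⟨o, ho, hs⟩
  · exact ⟨g⁻¹ • o, M24_smul_octad (inv_mem hg) ho, by
      simpa using Finset.smul_finset_subset_smul_finset (a := g⁻¹) hs⟩
  · exact ⟨g • o, M24_smul_octad hg ho, Finset.smul_finset_subset_smul_finset hs⟩

open Classical in
/-- Common points, and whether the two sets lie in one octad. -/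
noncomputable def triadInv (T U : Finset GolayPt) : ℕ :=
  2 * (T ∩ U).card + if InOctad (T ∪ U) then 1 else 0

theorem triadInv_smul {g : Equiv.Perm GolayPt} (hg : g ∈ M24) (T U : Finset GolayPt) :
    triadInv (g • T) (g • U) = triadInv T U := by
  rw [triadInv, triadInv, card_smul_inter, ← smul_union_pts]
  congr 1
  classical
  exact if_congr (inOctad_smul hg (s := T ∪ U)) rfl rfl

theorem triadInv_ptsOf {a b : ℕ} (ha : a < 2 ^ 24) (hb : b < 2 ^ 24) :
    triadInv (ptsOf a) (ptsOf b) = 2 * popc 24 (a &&& b) +
      if (maskList 8).any (fun o => o &&& (a ||| b) == (a ||| b)) = true then 1 else 0 := by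
  simp only [triadInv, ← ptsOf_and, card_ptsOf, ← ptsOf_or,
    inOctad_iff (Nat.or_lt_two_pow ha hb)]

theorem triad_separated : Separated triadInv (ptsOf triadBase) (kSets 3)
    (piece maskKind triadParts) (fun i => [5, 1, 3, 0].getD i.val 0) 7 := by
  have hlt : ∀ i : Fin triadParts.length, (triadParts.get i).head < 2 ^ 24 := by decide +kernel
  refine separated_of_cert (k := maskKind) triad_cover (fun g hg => triadInv_smul hg) (fun i => ?_)
    ?_ (by decide +kernel) (by decide +kernel)
  · rw [maskKind_pts, maskKind_pts, triadInv_ptsOf (by decide +kernel) (hlt i)]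
    revert i
    decide +kernel
  · rw [maskKind_pts, triadInv_ptsOf (by decide +kernel) (by decide +kernel)]
    decide +kernel

end Cfsg.Agent.Mathieu
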