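import Cfsg.Agent.Lib.Mathieu.Stab.OctadGroup
import Cfsg.Prelude.Def_Transfer

/-!
The stabiliser of an octad in `M24` as a split extension of an elementary abelian group of order 16
by its full automorphism group, and the classification of involutions fixing an octad pointwise.
-/

set_option autoImplicit false
set_option maxRecDepth 20000

namespace Cfsg.Agent.Mathieu

open Cfsg
open scoped Pointwise

variable {o : Finset GolayPt}

/-- The elements fixing the octad pointwise, in its stabiliser. -/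
def octU (o : Finset GolayPt) : Subgroup (MulAction.stabilizer M24 o) :=
  (octFix o).comap (M24.subtype.comp (MulAction.stabilizer M24 o).subtype)

/-- A complement to `octU`. -/
def octM (o : Finset GolayPt) (p : GolayPt) : Subgroup (MulAction.stabilizer M24 o) :=
  (octComp o p).comap (M24.subtype.comp (MulAction.stabilizer M24 o).subtype)

theorem mem_octU {g : MulAction.stabilizer M24 o} :
    g ∈ octU o ↔ ((g : M24) : Equiv.Perm GolayPt) ∈ octFix o := Iff.rfl

theorem mem_octM {p : GolayPt} {g : MulAction.stabilizer M24 o} :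
    g ∈ octM o p ↔ ((g : M24) : Equiv.Perm GolayPt) ∈ octComp o p := Iff.rfl

theorem stab_smul_eq (g : MulAction.stabilizer M24 o) :
    ((g : M24) : Equiv.Perm GolayPt) • o = o := g.2

theorem octU_normal (o : Finset GolayPt) : (octU o).Normal := by
  refine ⟨fun n hn g => ?_⟩
  rw [mem_octU] at hn ⊢
  have h := conj_mem_octFix (g : M24).2 hn
  rwa [stab_smul_eq g] at h

/-- The stabiliser elements fixing the octad pointwise, as a group equivalence. -/
def octUEquiv (o : Finset GolayPt) : octU o ≃* octFix o where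
  toFun g := ⟨_, g.2⟩
  invFun σ := ⟨⟨⟨σ.1, (mem_octFix.1 σ.2).1⟩, octFix_le_stab σ.2⟩, σ.2⟩
  left_inv _ := rfl
  right_inv _ := rfl
  map_mul' _ _ := rfl

theorem card_octU (ho : o ∈ octads) : Nat.card (octU o) = 16 := by
  rw [Nat.card_congr (octUEquiv o).toEquiv, card_octFix ho]

theorem octFix_sq_one (ho : o ∈ octads) {σ : Equiv.Perm GolayPt} (h : σ ∈ octFix o) :
    σ * σ = 1 := by
  obtain ⟨g, hg, rfl⟩ := exists_of_orbit_eq oct_cover.1 ho
  have hc := conj_mem_octFix (inv_mem hg) h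
  rw [inv_smul_smul, inv_inv] at hc
  obtain ⟨τ, hτ, he⟩ := octFix_base_map (q := (g⁻¹ * σ * g) (idx ptEnc octOutside)) (fun hq => by
    rw [← octFix_le_stab hc] at hq
    exact octOutside_notMem (apply_mem_smul_pts.1 hq))
  have hsq : ∀ τ ∈ octFix (ptsOf octBase), τ * τ = 1 := by
    intro τ hτ
    have hok : (octKernel.all fun l => permOK 24 l &&
        (List.range 24).all fun i => app l (app l i) == i) = true := by decide +kernel
    have hK := octKernel_check
    simp only [Bool.and_eq_true, List.all_eq_true, List.any_eq_true, Bool.or_eq_true, beq_iff_eq,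
      List.mem_range, decide_eq_true_eq] at hK hok
    obtain ⟨⟨⟨⟨hl, hmap⟩, hlt⟩, -⟩, -⟩ := hK
    have hq : τ (idx ptEnc octOutside) ∉ ptsOf octBase := fun hq => by
      rw [← octFix_le_stab hτ] at hq
      exact octOutside_notMem (apply_mem_smul_pts.1 hq)
    rcases hmap (ptEnc (τ (idx ptEnc octOutside))).val (ptEnc _).isLt with hb | ⟨l, hlK, happ⟩
    · exact absurd (mem_ptsOf.2 hb) hq
    obtain ⟨⟨hperm, hpres⟩, hfix⟩ := hl l hlK
    obtain ⟨ρ, hρ⟩ := exists_rep (e := ptEnc) hperm
    have hρK : ρ ∈ octFix (ptsOf octBase) := mem_octFix.2 ⟨mem_M24_of_rep hρ hpres, fun x hx => by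
      have hx' : octBase.testBit (ptEnc x).val = true := mem_ptsOf.1 hx
      rcases hfix (ptEnc x).val (ptEnc x).isLt with h0 | h0
      · exfalso
        revert h0
        simp [hx']
      · have := hρ.apply_idx (ptEnc x).isLt
        rwa [h0, idx_self] at this⟩
    have heq := eq_one_of_fix_base (mul_mem (inv_mem hρK) hτ) (p := idx ptEnc octOutside)
      octOutside_notMem (by
        rw [Equiv.Perm.mul_apply, Equiv.Perm.inv_def, Equiv.symm_apply_eq, hρ.apply_idx hlt, happ,
          idx_self])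
    rw [← inv_mul_eq_one.1 heq]
    refine Equiv.ext fun a => ptEnc.injective (Fin.ext ?_)
    rw [Equiv.Perm.mul_apply, hρ, hρ, (hok l hlK).2 _ (ptEnc a).isLt]
    rfl
  have h1 := hsq _ hc
  have : g⁻¹ * σ * g * (g⁻¹ * σ * g) = g⁻¹ * (σ * σ) * g := by group
  rw [this] at h1
  calc σ * σ = g * (g⁻¹ * (σ * σ) * g) * g⁻¹ := by group
    _ = 1 := by rw [h1, mul_one, mul_inv_cancel]

theorem octU_elementary (ho : o ∈ octads) : IsElementaryAbelian 2 (octU o) := by
  have hsq : ∀ a ∈ octU o, a * a = 1 := fun a ha =>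
    Subtype.ext (Subtype.ext (octFix_sq_one ho ha))
  refine ⟨⟨⟨fun a b => Subtype.ext ?_⟩⟩, fun a ha => by rw [pow_two, hsq a ha]⟩
  have hab := hsq _ ((octU o).mul_mem a.2 b.2)
  have hinv : ∀ x ∈ octU o, x⁻¹ = x := fun x hx => inv_eq_of_mul_eq_one_right (hsq x hx)
  calc (a : MulAction.stabilizer M24 o) * b
      = ((a : MulAction.stabilizer M24 o) * b)⁻¹ := (inv_eq_of_mul_eq_one_right hab).symm
    _ = b * a := by rw [mul_inv_rev, hinv _ a.2, hinv _ b.2]

theorem octU_inf_octM (ho : o ∈ octads) {p : GolayPt} (hp : p ∉ o) : octU o ⊓ octM o p = ⊥ := by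
  rw [Subgroup.eq_bot_iff_forall]
  rintro g ⟨h1, h2⟩
  exact Subtype.ext (Subtype.ext (eq_one_of_octFix ho h1 hp (mem_octComp.1 h2).2.2))

theorem octU_sup_octM (ho : o ∈ octads) {p : GolayPt} (hp : p ∉ o) : octU o ⊔ octM o p = ⊤ := by
  rw [eq_top_iff]
  intro g _
  obtain ⟨τ, hτ, hτg⟩ := exists_factor ho hp (g : M24).2 (stab_smul_eq g)
  let u : MulAction.stabilizer M24 o := ⟨⟨τ, (mem_octFix.1 hτ).1⟩, octFix_le_stab hτ⟩
  rw [← mul_inv_cancel_left u g]
  exact mul_mem (Subgroup.mem_sup_left hτ) (Subgroup.mem_sup_right hτg)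

theorem exists_disjoint_octad (ho : o ∈ octads) : ∃ o' ∈ octads, Disjoint o o' := by
  obtain ⟨g, hg, rfl⟩ := exists_of_orbit_eq oct_cover.1 ho
  have h : inCode 0x498b40 = true ∧ popc 24 0x498b40 = 8 ∧ octBase &&& 0x498b40 = 0 := by
    decide +kernel
  refine ⟨g • ptsOf 0x498b40, M24_smul_octad hg (ptsOf_mem_octads h.1 h.2.1), ?_⟩
  have hd := ptsOf_disjoint h.2.2
  rw [Finset.disjoint_left] at hd ⊢
  intro x hx hx'
  rw [mem_smul_pts] at hx hx'
  exact hd hx hx'

theorem octM_faithful (ho : o ∈ octads) {p : GolayPt} (hp : p ∉ o) :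
    ∀ m ∈ octM o p, (∀ u ∈ octU o, m * u * m⁻¹ = u) → m = 1 := by
  intro m hm hc
  have hout : ∀ x, x ∉ o → ((m : M24) : Equiv.Perm GolayPt) x = x := by
    intro x hx
    obtain ⟨τ, hτ, rfl⟩ := octFix_map ho hp hx
    have hcomm := congrArg (fun z : MulAction.stabilizer M24 o => ((z : M24) : Equiv.Perm GolayPt))
      (mul_inv_eq_iff_eq_mul.1 (hc ⟨⟨τ, (mem_octFix.1 hτ).1⟩, octFix_le_stab hτ⟩ hτ))
    have h2 := Equiv.Perm.ext_iff.1 hcomm p
    simp only [Subgroup.coe_mul, Equiv.Perm.mul_apply] at h2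
    rw [h2, show ((m : M24) : Equiv.Perm GolayPt) p = p from (mem_octComp.1 hm).2.2]
  obtain ⟨o', ho', hd⟩ := exists_disjoint_octad ho
  obtain ⟨x, hx, hx'⟩ : ∃ x, x ∈ (oᶜ : Finset GolayPt) ∧ x ∉ o' := by
    by_contra! hcon
    have := Finset.card_le_card (fun x hx => hcon x hx : (oᶜ : Finset GolayPt) ⊆ o')
    rw [Finset.card_compl, octad_card ho, octad_card ho', ← Finset.card_univ, card_univ_pts] at this
    omega
  refine Subtype.ext (Subtype.ext (eq_one_of_octFix ho' (mem_octFix.2 ⟨(m : M24).2, fun y hy => ?_⟩)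
    hx' (hout x (Finset.mem_compl.1 hx))))
  exact hout y fun h => Finset.disjoint_left.1 hd h hy

theorem octM_card (ho : o ∈ octads) {p : GolayPt} (hp : p ∉ o) : Nat.card (octM o p) = 20160 := by
  rw [← card_octComp ho hp]
  exact Nat.card_congr
    { toFun := fun g => ⟨_, g.2⟩
      invFun := fun σ => ⟨⟨⟨σ.1, (mem_octComp.1 σ.2).1⟩, (mem_octComp.1 σ.2).2.1⟩, σ.2⟩
      left_inv := fun _ => rfl
      right_inv := fun _ => rfl }

/-- An elementary abelian group of order sixteen has at most `|GL(4, 2)|` automorphisms. -/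
theorem card_mulAut_le {A : Type} [Group A] [Finite A] (hA : IsElementaryAbelian 2 (⊤ : Subgroup A))
    (hc : Nat.card A = 16) : Nat.card (MulAut A) ≤ 20160 := by
  letI : CommGroup A := { (inferInstance : Group A) with
    mul_comm := fun a b =>
      congrArg Subtype.val (hA.1.is_comm.comm ⟨a, trivial⟩ ⟨b, trivial⟩) }
  letI : Module (ZMod 2) (Additive A) := AddCommGroup.zmodModule (n := 2) fun x =>
    congrArg Additive.ofMul (hA.2 x.toMul trivial)
  have hfr : Module.finrank (ZMod 2) (Additive A) =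
      Module.finrank (ZMod 2) (Fin 4 → ZMod 2) := by
    have h1 := Module.natCard_eq_pow_finrank (K := ZMod 2) (V := Additive A)
    rw [Nat.card_congr Additive.toMul, hc, Nat.card_zmod] at h1
    rw [Module.finrank_fin_fun]
    exact Nat.pow_right_injective le_rfl (h1.symm.trans (by norm_num))
  let e : Additive A ≃ₗ[ZMod 2] (Fin 4 → ZMod 2) := LinearEquiv.ofFinrankEq _ _ hfr
  let f : MulAut A → ((Fin 4 → ZMod 2) ≃ₗ[ZMod 2] (Fin 4 → ZMod 2)) := fun φ =>
    (e.symm.trans ({ MulEquiv.toAdditive φ with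
      map_smul' := fun c x => (ZMod.map_smul (MulEquiv.toAdditive φ).toAddMonoidHom c x) } :
        Additive A ≃ₗ[ZMod 2] Additive A)).trans e
  have hf : Function.Injective f := by
    intro φ ψ h
    refine MulEquiv.ext fun a => ?_
    have h2 := LinearEquiv.congr_fun h (e (Additive.ofMul a))
    simpa [f] using h2
  have hGL : Nat.card ((Fin 4 → ZMod 2) ≃ₗ[ZMod 2] (Fin 4 → ZMod 2)) = 20160 := by
    rw [← Nat.card_congr (Matrix.GeneralLinearGroup.toLin.trans
        (LinearMap.GeneralLinearGroup.generalLinearEquiv (ZMod 2) (Fin 4 → ZMod 2))).toEquiv,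
      Matrix.card_GL_field, ZMod.card]
    decide +kernel
  have : Finite ((Fin 4 → ZMod 2) ≃ₗ[ZMod 2] (Fin 4 → ZMod 2)) :=
    Nat.finite_of_card_ne_zero (by omega)
  exact (Nat.card_le_card_of_injective f hf).trans hGL.le

theorem octM_full (ho : o ∈ octads) {p : GolayPt} (hp : p ∉ o) :
    ∀ φ : ↥(octU o) ≃* ↥(octU o), ∃ m ∈ octM o p, ∀ u : ↥(octU o),
      ((φ u : ↥(octU o)) : MulAction.stabilizer M24 o) = m * u * m⁻¹ := by
  have := octU_normal o
  let α : octM o p →* MulAut (octU o) := (MulAut.conjNormal (H := octU o)).comp (octM o p).subtype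
  have hinj : Function.Injective α := by
    rw [injective_iff_map_eq_one]
    intro m hm
    refine Subtype.ext (octM_faithful ho hp m.1 m.2 fun u hu => ?_)
    have h2 := congrArg Subtype.val (MulEquiv.congr_fun (show α m = 1 from hm) ⟨u, hu⟩)
    simpa [α] using h2
  have hU := octU_elementary ho
  have hle : Nat.card (MulAut (octU o)) ≤ Nat.card (octM o p) := by
    rw [octM_card ho hp]
    refine card_mulAut_le ⟨⟨⟨fun a b => Subtype.ext (hU.1.is_comm.comm a.1 b.1)⟩⟩,
      fun a _ => Subtype.ext (hU.2 a.1 a.2)⟩ (card_octU ho)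
  have hsurj : Function.Surjective α :=
    ((Function.Injective.bijective_of_nat_card_le hinj hle)).2
  intro φ
  obtain ⟨m, hm⟩ := hsurj φ
  exact ⟨m.1, m.2, fun u => by rw [← hm]; exact MulAut.conjNormal_apply _ _⟩

end Cfsg.Agent.Mathieu
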