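import Cfsg.Agent.Lib.Mathieu.Stab.OctadHolo

/-!
Involutions of `M24` fixing the eight points of an octad: their centralisers lie in the stabiliser
of that octad.
-/

set_option autoImplicit false

namespace Cfsg.Agent.Mathieu

open Cfsg
open scoped Pointwise

variable {o : Finset GolayPt}

theorem octFix_fixedPoints (ho : o ∈ octads) {σ : Equiv.Perm GolayPt} (hσ : σ ∈ octFix o)
    (h1 : σ ≠ 1) (x : GolayPt) : σ x = x ↔ x ∈ o :=
  ⟨fun h => by_contra fun hx => h1 (eq_one_of_octFix ho hσ hx h), (mem_octFix.1 hσ).2 x⟩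

theorem smul_eq_of_commute {σ τ : Equiv.Perm GolayPt} (hσ : ∀ x, σ x = x ↔ x ∈ o)
    (h : σ * τ = τ * σ) : τ • o = o := by
  refine Finset.eq_of_subset_of_card_le (fun x hx => ?_) (card_smul_pts τ o).ge
  obtain ⟨y, hy, rfl⟩ := Finset.mem_smul_finset.1 hx
  rw [← hσ, Equiv.Perm.smul_def]
  have := Equiv.Perm.ext_iff.1 h y
  simp only [Equiv.Perm.mul_apply, (hσ y).2 hy] at this
  exact this

theorem centralizer_le_stabilizer (ho : o ∈ octads) {u : M24}
    (hu : (u : Equiv.Perm GolayPt) ∈ octFix o) (h1 : u ≠ 1) :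
    Subgroup.centralizer ({u} : Set M24) ≤ MulAction.stabilizer M24 o := fun g hg =>
  smul_eq_of_commute (octFix_fixedPoints ho hu fun h => h1 (Subtype.ext h))
    (congrArg Subtype.val (Subgroup.mem_centralizer_singleton_iff.1 hg)).symm

theorem mem_octFix_of_fixedPoints {z : M24}
    (h : (Finset.univ.filter fun p : GolayPt => (z : Equiv.Perm GolayPt) p = p) = o) :
    (z : Equiv.Perm GolayPt) ∈ octFix o := by
  refine mem_octFix.2 ⟨z.2, fun x hx => ?_⟩
  rw [← h, Finset.mem_filter] at hx
  exact hx.2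

/-- The centraliser in `M24` as centraliser in the octad stabiliser. -/
theorem centralizer_eq_map (ho : o ∈ octads) (z : MulAction.stabilizer M24 o)
    (hz : ((z : M24) : Equiv.Perm GolayPt) ∈ octFix o) (h1 : z ≠ 1) :
    Subgroup.centralizer ({(z : M24)} : Set M24) =
      (Subgroup.centralizer ({z} : Set (MulAction.stabilizer M24 o))).map
        (MulAction.stabilizer M24 o).subtype := by
  ext g
  simp only [Subgroup.mem_map, Subgroup.coe_subtype, Subgroup.mem_centralizer_singleton_iff]
  refine ⟨fun hg => ?_, ?_⟩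
  · refine ⟨⟨g, centralizer_le_stabilizer ho hz (fun h => h1 (Subtype.ext h))
      (Subgroup.mem_centralizer_singleton_iff.2 hg)⟩, Subtype.ext hg, rfl⟩
  · rintro ⟨x, hx, rfl⟩
    exact congrArg Subtype.val hx

/-- Over the field with two elements the special linear group is the general one. -/
noncomputable def glEquivSL {n : ℕ} :
    Matrix.SpecialLinearGroup (Fin n) (ZMod 2) ≃* GL (Fin n) (ZMod 2) :=
  MulEquiv.ofBijective Matrix.SpecialLinearGroup.toGL
    ⟨fun a b h => Subtype.ext (congrArg Units.val h), fun g => by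
      have h2 : ∀ c : ZMod 2, c ≠ 0 → c = 1 := by decide
      exact ⟨⟨g, h2 _ ((Matrix.isUnit_iff_isUnit_det _).1 g.isUnit).ne_zero⟩, Units.ext rfl⟩⟩

end Cfsg.Agent.Mathieu
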