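import Cfsg.Agent.Lib.Mathieu.Stab.Common

/-!
Certified orbits, on sets of points, of the elements of `M24` fixing each of some given sets.
-/

set_option autoImplicit false

namespace Cfsg.Agent.Mathieu

open Cfsg
open scoped Pointwise

/-- The elements of `M24` fixing the sets with the masks in `F`. -/
def relStab (F : List ℕ) : Subgroup (Equiv.Perm GolayPt) :=
  M24 ⊓ ⨅ m ∈ F, MulAction.stabilizer (Equiv.Perm GolayPt) (ptsOf m)

theorem mem_relStab {F : List ℕ} {σ : Equiv.Perm GolayPt} :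
    σ ∈ relStab F ↔ σ ∈ M24 ∧ ∀ m ∈ F, σ • ptsOf m = ptsOf m := by
  simp [relStab, Subgroup.mem_inf, Subgroup.mem_iInf, MulAction.mem_stabilizer_iff]

/-- The elements listed in a tree `c` are `n` pairwise different sets with the property `q`, lying
in one orbit of the generators `gens`, each of which fixes every set in `F`. -/
def relOK (F gens : List ℕ) (q : ℕ → Bool) (n : ℕ) (c : ℕ × List (ℕ × ℕ × ℕ)) : Bool :=
  (gens.all fun l => permOK 24 l && presCode l && F.all fun m => mapsMask l m m) &&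
    decide (c.1 < 2 ^ 24) && treeOK maskKind gens [c.1] c.2 &&
    distinctKeys (c.1 :: c.2.map fun s => s.2.2) &&
    ((c.1 :: c.2.map fun s => s.2.2).all q) && (n == c.2.length + 1)

/-- A successful check shows that the `n` sets with the property `q` form part of one orbit. -/
theorem relOK_pair {F gens : List ℕ} {q : ℕ → Bool} {n : ℕ} {c : ℕ × List (ℕ × ℕ × ℕ)}
    (h : relOK F gens q n c = true) {all : List ℕ} (hq : ∀ m, q m = true → m ∈ all)
    (hn : all.length = n) {a b : ℕ} (ha : a ∈ all) (hb : b ∈ all) :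
    ∃ σ ∈ relStab F, σ • ptsOf a = ptsOf b := by
  simp only [relOK, Bool.and_eq_true, List.all_eq_true, beq_iff_eq,
    decide_eq_true_eq] at h
  obtain ⟨⟨⟨⟨⟨hgens, hlt⟩, htree⟩, hkeys⟩, hsub⟩, hlen⟩ := h
  have hg : ∀ l ∈ gens, ∃ σ ∈ relStab F, Rep ptEnc σ l := by
    intro l hl
    obtain ⟨⟨h1, h2⟩, h3⟩ := hgens l hl
    obtain ⟨σ, hσ⟩ := exists_rep (e := ptEnc) h1
    exact ⟨σ, mem_relStab.2 ⟨mem_M24_of_rep hσ h2, fun m hm => smul_ptsOf hσ (h3 m hm)⟩, hσ⟩
  have hhead : ∀ y ∈ [c.1], maskKind.ok y = true ∧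
      ∃ σ ∈ relStab F, σ • ptsOf c.1 = maskKind.pts y := by
    intro y hy
    rw [List.mem_singleton] at hy
    subst hy
    exact ⟨decide_eq_true hlt, 1, one_mem _, one_smul _ _⟩
  have hperm : (c.1 :: c.2.map fun s => s.2.2).Perm all :=
    ((nodup_of_distinctKeys hkeys).subperm fun m hm => hq m (hsub m hm)).perm_of_length_le
      (by simp [hn, hlen])
  have hreach : ∀ a ∈ all, ∃ σ ∈ relStab F, σ • ptsOf c.1 = ptsOf a := by
    intro a ha
    rcases List.mem_cons.1 (hperm.mem_iff.2 ha) with rfl | hcons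
    · exact ⟨1, one_mem _, one_smul _ _⟩
    · obtain ⟨t, ht, rfl⟩ := List.mem_map.1 hcons
      exact (treeOK_spec hg _ c.2 [c.1] hhead htree t ht).2
  obtain ⟨σ, hσ, hσa⟩ := hreach a ha
  obtain ⟨τ, hτ, hτb⟩ := hreach b hb
  exact ⟨τ * σ⁻¹, mul_mem hτ (inv_mem hσ), by rw [← hσa, mul_smul, inv_smul_smul, hτb]⟩

/-- Counting a finite set of sets of points through a list of masks. -/
theorem ncard_eq_length {A : Set (Finset GolayPt)} {L : List ℕ} (hnd : L.Nodup)
    (hlt : ∀ m ∈ L, m < 2 ^ 24) (hmem : ∀ s, s ∈ A ↔ ∃ m ∈ L, ptsOf m = s) :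
    A.ncard = L.length := by
  classical
  have hset : A = ↑(L.map ptsOf).toFinset := by
    ext s; simp [hmem, eq_comm]
  rw [hset, Set.ncard_coe_finset, List.toFinset_card_of_nodup
    (hnd.map_on fun x hx y hy e => ptsOf_inj (hlt x hx) (hlt y hy) e), List.length_map]

theorem ptsOf_singleton {i : ℕ} (hi : i < 24) : ptsOf (2 ^ i) = {idx ptEnc i} := by
  rw [ptsOf_two_pow hi]
  congr 1
  exact ((idx_eq_iff hi).2 (by simp)).symm

/-- A permutation fixing the mask of a single index fixes that point. -/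
theorem apply_eq_of_smul_singleton {σ : Equiv.Perm GolayPt} {i : ℕ} (hi : i < 24)
    (h : σ • ptsOf (2 ^ i) = ptsOf (2 ^ i)) : σ (idx ptEnc i) = idx ptEnc i := by
  rw [ptsOf_singleton hi, Finset.smul_finset_singleton, Finset.singleton_inj] at h
  exact h

end Cfsg.Agent.Mathieu
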