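import Cfsg.Agent.Lib.Mathieu.Stab.FamilyAction
import Cfsg.Agent.Lib.Mathieu.Stab.SextGroupData

/-!
The stabiliser of a sextet in `M24`.
-/

set_option autoImplicit false
set_option maxRecDepth 20000

namespace Cfsg.Agent.Mathieu

open Cfsg
open scoped Pointwise

/-- The packed permutation squares to the identity. -/
def sqId (l : ℕ) : Bool := (List.range 24).all fun i => app l (app l i) == i

theorem sqId_iff {σ : Equiv.Perm GolayPt} {l : ℕ} (h : Rep ptEnc σ l) :
    sqId l = true ↔ σ * σ = 1 := by
  simp only [sqId, List.all_eq_true, List.mem_range, beq_iff_eq]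
  constructor
  · intro hs
    refine Equiv.ext fun a => ptEnc.injective (Fin.ext ?_)
    rw [Equiv.Perm.mul_apply, h, h, hs _ (ptEnc a).isLt]
    rfl
  · intro hs i hi
    have h1 : (ptEnc ((σ * σ) (idx ptEnc i))).val = app l (app l i) := by
      rw [Equiv.Perm.mul_apply, h, h, idx_val hi]
    rw [← h1, hs, Equiv.Perm.one_apply, idx_val hi]

theorem sext_swappable : Swappable (famPts sextBase) :=
  swappable_of_swapsOK (sw := sextSwaps.map fun s => s.2.2) (by decide +kernel) (by decide +kernel)

theorem card_famFix_sextBase : Nat.card (famFix (famPts sextBase)) = 192 := by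
  have h1 := sext_swappable.card_famFix
  have h2 := card_stabilizer_of_orbit sext_cover.1
  rw [sextets_ncard] at h2
  rw [sextBase_mem.1, show Nat.factorial 6 = 720 by decide +kernel] at h1
  omega

theorem sextKernel_check : (elemsOK sextKernel && sextKernel.all (fixesAll sextBase) &&
    (sextKernel.all fun a => sextKernel.all fun b => !sqId a || !sqId b ||
      (List.range 24).all fun i => app a (app b i) == app b (app a i)) &&
    (sextKernel.filter sqId).length == 64 && sextKernel.length == 192) = true := by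
  decide +kernel

/-- The involutions, with the identity, of the kernel of the action on the tetrads. -/
def sextInvolutions : Set (Equiv.Perm GolayPt) := {σ | σ ∈ famFix (famPts sextBase) ∧ σ * σ = 1}

theorem sextInvolutions_facts :
    (∀ σ ∈ sextInvolutions, ∀ τ ∈ sextInvolutions, Commute σ τ) ∧ sextInvolutions.ncard = 64 := by
  classical
  have h := sextKernel_check
  simp only [Bool.and_eq_true, List.all_eq_true, beq_iff_eq] at h
  obtain ⟨⟨⟨⟨hok, hfix⟩, hcomm⟩, h64⟩, h192⟩ := h
  obtain ⟨hperm, hnd⟩ := elemsOK_spec hok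
  have hmem : ∀ l ∈ sextKernel, decode l ∈ famFix (famPts sextBase) := fun l hl =>
    decode_mem_famFix (hperm l hl) (hfix l hl)
  have hex : ∀ σ ∈ sextInvolutions, ∃ l ∈ sextKernel, decode l = σ ∧ sqId l = true := fun σ hσ => by
    obtain ⟨l, hl, rfl⟩ := exists_of_card_le hok hmem (by rw [card_famFix_sextBase, h192]) hσ.1
    exact ⟨l, hl, rfl, (sqId_iff (rep_decode (hperm l hl).1)).2 hσ.2⟩
  refine ⟨fun σ hσ τ hτ => ?_, ?_⟩
  · obtain ⟨a, ha, rfl, hsa⟩ := hex σ hσ
    obtain ⟨b, hb, rfl, hsb⟩ := hex τ hτ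
    have hab := hcomm a ha b hb
    simp only [hsa, hsb, Bool.not_true, Bool.false_or, List.all_eq_true, List.mem_range,
      beq_iff_eq] at hab
    refine Equiv.ext fun x => ptEnc.injective (Fin.ext ?_)
    have hA := rep_decode (hperm a ha).1
    have hB := rep_decode (hperm b hb).1
    simp only [Equiv.Perm.mul_apply]
    rw [hA, hB, hB, hA]
    exact hab _ (ptEnc x).isLt
  · have hset : sextInvolutions = ↑((sextKernel.filter sqId).map decode).toFinset := by
      ext σ
      simp only [List.coe_toFinset, Set.mem_ofPred_eq, List.mem_map, List.mem_filter]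
      refine ⟨fun hσ => ?_, ?_⟩
      · obtain ⟨l, hl, he, hs⟩ := hex σ hσ
        exact ⟨l, ⟨hl, hs⟩, he⟩
      · rintro ⟨l, ⟨hl, hs⟩, rfl⟩
        exact ⟨hmem l hl, (sqId_iff (rep_decode (hperm l hl).1)).1 hs⟩
    rw [hset, Set.ncard_coe_finset, List.toFinset_card_of_nodup, List.length_map, h64]
    exact hnd.sublist (List.filter_sublist.map _)

/-- The elementary abelian normal subgroup of the stabiliser of the reference sextet. -/
def sextNormal : Subgroup (MulAction.stabilizer M24 (famPts sextBase)) where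
  carrier := {g | ((g : M24) : Equiv.Perm GolayPt) ∈ sextInvolutions}
  one_mem' := ⟨one_mem _, mul_one 1⟩
  mul_mem' := by
    intro a b ha hb
    refine ⟨mul_mem ha.1 hb.1, ?_⟩
    simp only [Subgroup.coe_mul]
    have hc := sextInvolutions_facts.1 _ hb _ ha
    rw [← mul_assoc, mul_assoc (((a : M24) : Equiv.Perm GolayPt)), hc.eq, ← mul_assoc, ha.2,
      one_mul, hb.2]
  inv_mem' := by
    intro a ha
    refine ⟨inv_mem ha.1, ?_⟩
    simp only [Subgroup.coe_inv]
    rw [← mul_inv_rev, ha.2, inv_one]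

theorem mem_sextNormal {g : MulAction.stabilizer M24 (famPts sextBase)} :
    g ∈ sextNormal ↔ ((g : M24) : Equiv.Perm GolayPt) ∈ sextInvolutions := Iff.rfl

theorem sextNormal_normal : sextNormal.Normal := by
  refine ⟨fun g hg h => ?_⟩
  obtain ⟨⟨hgM, hgfix⟩, hsq⟩ := mem_sextNormal.1 hg
  have hsq' : g * g = 1 := Subtype.ext (Subtype.ext hsq)
  have h1 : h * g * h⁻¹ * (h * g * h⁻¹) = 1 := by
    have : h * g * h⁻¹ * (h * g * h⁻¹) = h * (g * g) * h⁻¹ := by group
    rw [this, hsq', mul_one, mul_inv_cancel]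
  refine ⟨⟨((h * g * h⁻¹ : _) : M24).2, fun t ht => ?_⟩,
    congrArg (fun x : MulAction.stabilizer M24 (famPts sextBase) =>
      ((x : M24) : Equiv.Perm GolayPt)) h1⟩
  have hker : g ∈ (famPerm (famPts sextBase)).ker := mem_ker_famPerm.2 hgfix
  exact mem_ker_famPerm.1 ((MonoidHom.normal_ker _).conj_mem g hker h) t ht

theorem card_sextNormal : Nat.card sextNormal = 64 := by
  rw [← sextInvolutions_facts.2, ← Nat.card_coe_set_eq]
  exact Nat.card_congr
    { toFun := fun g => ⟨_, g.2⟩
      invFun := fun σ => ⟨⟨⟨σ.1, σ.2.1.1⟩, famFix_le σ.2.1⟩, σ.2⟩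
      left_inv := fun _ => rfl
      right_inv := fun _ => rfl }

theorem sq_sextNormal : ∀ g ∈ sextNormal, g * g = 1 := fun _ hg =>
  Subtype.ext (Subtype.ext (mem_sextNormal.1 hg).2)

end Cfsg.Agent.Mathieu
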