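import Cfsg.Agent.Lib.Mathieu.Stab.FamilyAction
import Cfsg.Agent.Lib.Mathieu.Stab.TrioGroupData

/-!
The stabiliser of a trio in `M24`: it acts on the three octads and on the seven refining sextets as
`GL(3, 2) × S₃`, with an elementary abelian kernel of order 64.
-/

set_option autoImplicit false
set_option maxRecDepth 20000
set_option maxHeartbeats 1000000

namespace Cfsg.Agent.Mathieu

open Cfsg
open scoped Pointwise Matrix

/-! ### `GL(3, 2)` on the seven nonzero vectors -/

/-- The nonzero vectors, numbered. -/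
def nzVec (i : Fin 7) : Fin 3 → ZMod 2 := fun k => if (i.val + 1).testBit k.val then 1 else 0

/-- The number of a nonzero vector. -/
def nzNum (v : Fin 3 → ZMod 2) : Fin 7 :=
  ⟨((v 0).val + 2 * (v 1).val + 4 * (v 2).val - 1) % 7, Nat.mod_lt _ (by norm_num)⟩

theorem nzNum_nzVec : ∀ i, nzNum (nzVec i) = i := by decide +kernel

theorem nzVec_nzNum : ∀ v : Fin 3 → ZMod 2, v ≠ 0 → nzVec (nzNum v) = v := by decide +kernel

theorem nzVec_ne_zero : ∀ i, nzVec i ≠ 0 := by decide +kernel

theorem gl3_mulVec_ne_zero (g : GL (Fin 3) (ZMod 2)) (i : Fin 7) :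
    (g : Matrix (Fin 3) (Fin 3) (ZMod 2)) *ᵥ nzVec i ≠ 0 := fun h => nzVec_ne_zero i (by
  have := congrArg (fun v => (↑g⁻¹ : Matrix (Fin 3) (Fin 3) (ZMod 2)) *ᵥ v) h
  simpa [Matrix.mulVec_mulVec, ← Units.val_mul] using this)

/-- The action on the numbers of the nonzero vectors. -/
def gl3Perm : GL (Fin 3) (ZMod 2) →* Equiv.Perm (Fin 7) where
  toFun g :=
    { toFun := fun i => nzNum ((g : Matrix (Fin 3) (Fin 3) (ZMod 2)) *ᵥ nzVec i)
      invFun := fun i => nzNum ((↑g⁻¹ : Matrix (Fin 3) (Fin 3) (ZMod 2)) *ᵥ nzVec i)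
      left_inv := fun i => by
        simp only
        rw [nzVec_nzNum _ (gl3_mulVec_ne_zero g i), Matrix.mulVec_mulVec, ← Units.val_mul,
          inv_mul_cancel, Units.val_one, Matrix.one_mulVec, nzNum_nzVec]
      right_inv := fun i => by
        simp only
        rw [nzVec_nzNum _ (gl3_mulVec_ne_zero g⁻¹ i), Matrix.mulVec_mulVec, ← Units.val_mul,
          mul_inv_cancel, Units.val_one, Matrix.one_mulVec, nzNum_nzVec] }
  map_one' := Equiv.ext fun i => by simp [nzNum_nzVec]
  map_mul' g h := Equiv.ext fun i => by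
    show nzNum _ = nzNum _
    simp only [Equiv.coe_fn_mk]
    rw [nzVec_nzNum _ (gl3_mulVec_ne_zero h i), Matrix.mulVec_mulVec, Units.val_mul]

theorem gl3Perm_apply (g : GL (Fin 3) (ZMod 2)) (i : Fin 7) :
    nzVec (gl3Perm g i) = (g : Matrix (Fin 3) (Fin 3) (ZMod 2)) *ᵥ nzVec i :=
  nzVec_nzNum _ (gl3_mulVec_ne_zero g i)

theorem gl3Perm_injective : Function.Injective gl3Perm := by
  intro g h hgh
  have hb : ∀ k : Fin 3, ∃ i, nzVec i = Pi.single k 1 := by decide +kernel
  refine Units.ext (Matrix.ext_of_mulVec_single fun k => ?_)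
  obtain ⟨i, hi⟩ := hb k
  rw [← hi, ← gl3Perm_apply, hgh, gl3Perm_apply]

theorem card_gl3 : Nat.card (GL (Fin 3) (ZMod 2)) = 168 := by
  rw [Matrix.card_GL_field, ZMod.card]
  decide +kernel

/-! ### The reference trio -/

/-- The packed permutation squares to the identity. -/
def sqIdB (l : ℕ) : Bool := (List.range 24).all fun i => app l (app l i) == i

theorem sqIdB_spec {l : ℕ} (hperm : permOK 24 l = true) (h : sqIdB l = true) :
    decode l * decode l = 1 := by
  simp only [sqIdB, List.all_eq_true, List.mem_range, beq_iff_eq] at h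
  refine Equiv.ext fun a => ptEnc.injective (Fin.ext ?_)
  rw [Equiv.Perm.mul_apply, rep_decode hperm, rep_decode hperm, h _ (ptEnc a).isLt]
  rfl

/-- The labelled sextets refining the reference trio. -/
def trioRef (i : Fin 7) : Finset (Finset GolayPt) := famPts (trioSextets.getD i.val [])

theorem trioRef_injective : Function.Injective trioRef := by
  intro i j h
  have hk : ∀ i j : Fin 7, famKind.key (trioSextets.getD i.val []) =
      famKind.key (trioSextets.getD j.val []) → i = j := by decide +kernel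
  have hok : ∀ i : Fin 7, famOK (trioSextets.getD i.val []) = true := by decide +kernel
  exact hk i j (famKind.key_congr _ _ (hok i) (hok j) h)

/-- The three octads of the reference trio. -/
def trioOct (i : Fin 3) : ↥(famPts trioBase) :=
  ⟨ptsOf (trioBase.getD i.val 0), mem_famPts.2 ⟨_, by
    have h : ∀ i : Fin 3, trioBase.getD i.val 0 ∈ trioBase := by decide +kernel
    exact h i, rfl⟩⟩

theorem trioOct_bijective : Function.Bijective trioOct := by
  have h : ∀ i j : Fin 3, trioBase.getD i.val 0 = trioBase.getD j.val 0 → i = j := by decide +kernel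
  have hlt : ∀ i : Fin 3, trioBase.getD i.val 0 < 2 ^ 24 := by decide +kernel
  refine (Nat.bijective_iff_injective_and_card _).2 ⟨fun i j hij => h i j
    (ptsOf_inj (hlt i) (hlt j) (congrArg Subtype.val hij)), ?_⟩
  rw [Nat.card_eq_finsetCard, Nat.card_eq_fintype_card, Fintype.card_fin, trioBase_mem.1]

/-- Permutations of the octads of the reference trio. -/
noncomputable def trioOctPerm : Equiv.Perm (Fin 3) ≃* Equiv.Perm ↥(famPts trioBase) :=
  (Equiv.ofBijective trioOct trioOct_bijective).permCongrHom

/-- The target of the action of the trio stabiliser. -/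
noncomputable def trioTarget :
    GL (Fin 3) (ZMod 2) × Equiv.Perm (Fin 3) →* Equiv.Perm ↥(famPts trioBase) × Equiv.Perm (Fin 7) :=
  ((trioOctPerm.toMonoidHom.comp (MonoidHom.snd _ _)).prod (gl3Perm.comp (MonoidHom.fst _ _)))

theorem trioTarget_apply (g : GL (Fin 3) (ZMod 2)) (s : Equiv.Perm (Fin 3)) :
    trioTarget (g, s) = (trioOctPerm s, gl3Perm g) := rfl

theorem trioTarget_injective : Function.Injective trioTarget := by
  rintro ⟨g, s⟩ ⟨h, t⟩ he
  rw [trioTarget_apply, trioTarget_apply, Prod.mk.injEq] at he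
  rw [gl3Perm_injective he.2, trioOctPerm.injective he.1]

/-- The elements of the trio stabiliser permuting the seven sextets. -/
noncomputable def trioH : Subgroup (MulAction.stabilizer M24 (famPts trioBase)) :=
  (labStab trioRef trioRef_injective).comap
    (M24.subtype.comp (MulAction.stabilizer M24 (famPts trioBase)).subtype)

/-- The action on octads and sextets. -/
noncomputable def trioPsi : trioH →* Equiv.Perm ↥(famPts trioBase) × Equiv.Perm (Fin 7) :=
  ((famPerm _).comp trioH.subtype).prod
    ((labPerm trioRef_injective).comp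
      ((M24.subtype.comp (MulAction.stabilizer M24 (famPts trioBase)).subtype).subgroupComap
        (labStab trioRef trioRef_injective)))

/-- A packed element of `M24` inducing given maps of octads and sextets. -/
def trioElemOK (l : ℕ) (fo : Fin 3 → Fin 3) (fr : Fin 7 → Fin 7) : Prop :=
  (permOK 24 l && presCode l) = true ∧
    (∀ i, mapsMask l (trioBase.getD i.val 0) (trioBase.getD (fo i).val 0) = true) ∧
    ∀ i, mapsFam l (trioSextets.getD i.val []) (trioSextets.getD (fr i).val []) = true

instance (l : ℕ) (fo : Fin 3 → Fin 3) (fr : Fin 7 → Fin 7) : Decidable (trioElemOK l fo fr) := by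
  unfold trioElemOK; infer_instance

theorem trioElem_spec {l : ℕ} {so : Equiv.Perm (Fin 3)} {sr : Equiv.Perm (Fin 7)}
    (h : trioElemOK l so sr) :
    decode l ∈ M24 ∧ (∀ i, decode l • (trioOct i : Finset GolayPt) = trioOct (so i)) ∧
      (∀ i, decode l • trioRef i = trioRef (sr i)) ∧
      decode l • famPts trioBase = famPts trioBase := by
  obtain ⟨h1, h2, h3⟩ := h
  rw [Bool.and_eq_true] at h1
  have hl := rep_decode h1.1
  have hoct : ∀ i, decode l • (trioOct i : Finset GolayPt) = trioOct (so i) := fun i =>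
    smul_ptsOf hl (h2 i)
  have hok : ∀ i : Fin 7, famOK (trioSextets.getD i.val []) = true := by decide +kernel
  refine ⟨mem_M24_of_rep hl h1.2, hoct, fun i => famPts_smul hl (hok i) (h3 i), ?_⟩
  refine Finset.eq_of_subset_of_card_le (fun x hx => ?_) (Finset.card_smul_finset _ _).ge
  obtain ⟨y, hy, rfl⟩ := Finset.mem_smul_finset.1 hx
  obtain ⟨i, hi⟩ := trioOct_bijective.2 ⟨y, hy⟩
  have hy' : (trioOct i : Finset GolayPt) = y := congrArg Subtype.val hi
  rw [← hy', hoct i]
  exact (trioOct (so i)).2

theorem exists_trioH {l : ℕ} {so : Equiv.Perm (Fin 3)} {sr : Equiv.Perm (Fin 7)}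
    (h : trioElemOK l so sr) :
    ∃ g : trioH, trioPsi g = (trioOctPerm so, sr) ∧
      (((g : MulAction.stabilizer M24 (famPts trioBase)) : M24) : Equiv.Perm GolayPt) = decode l := by
  obtain ⟨hm, ho, hr, hT⟩ := trioElem_spec h
  let g0 : MulAction.stabilizer M24 (famPts trioBase) := ⟨⟨decode l, hm⟩, hT⟩
  refine ⟨⟨g0, ⟨hm, fun i => ⟨_, hr i⟩⟩⟩, Prod.ext ?_ ((labPerm_eq_iff _ _ _).2 hr), rfl⟩
  refine Equiv.ext fun t => ?_
  obtain ⟨i, rfl⟩ := trioOct_bijective.2 t
  refine Subtype.ext ?_
  show ((famPerm _ g0 (trioOct i) : ↥(famPts trioBase)) : Finset GolayPt) = _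
  rw [← famPerm_spec g0 (trioOct i)]
  refine (ho i).trans (congrArg Subtype.val ?_)
  simp [trioOctPerm, Equiv.permCongrHom, Equiv.permCongr_apply]

theorem trioSwaps_check : ∀ a b : Fin 3, a ≠ b →
    ∃ s ∈ trioSwaps, trioElemOK s.2.2 (Equiv.swap a b) id := by
  decide +kernel

theorem trioTransvections_check : ∀ i j : Fin 3, i ≠ j → ∃ s ∈ trioTransvections,
    trioElemOK s.2.2 id fun k => nzNum (Matrix.transvection i j (1 : ZMod 2) *ᵥ nzVec k) := by
  decide +kernel

theorem trioKernel_check : (elemsOK trioKernel && trioKernel.length == 64 &&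
    trioKernel.all fun l => sqIdB l) = true ∧ ∀ l ∈ trioKernel, trioElemOK l id id := by
  decide +kernel

theorem target_le_range : trioTarget.range ≤ trioPsi.range := by
  rw [MonoidHom.range_eq_map, Subgroup.map_le_iff_le_comap]
  rintro ⟨g, s⟩ -
  have hs : ∀ s : Equiv.Perm (Fin 3), ((1, s) : GL (Fin 3) (ZMod 2) × Equiv.Perm (Fin 3)) ∈
      trioPsi.range.comap trioTarget := by
    intro s
    induction s using Equiv.Perm.swap_induction_on with
    | one => exact one_mem _
    | swap_mul f a b hab ih =>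
      have hstep : ((1, Equiv.swap a b) : GL (Fin 3) (ZMod 2) × Equiv.Perm (Fin 3)) ∈
          trioPsi.range.comap trioTarget := by
        obtain ⟨t, -, ht⟩ := trioSwaps_check a b hab
        obtain ⟨x, hx, -⟩ := exists_trioH (so := Equiv.swap a b) (sr := 1) ht
        exact ⟨x, by rw [hx, trioTarget_apply, map_one]⟩
      simpa using mul_mem hstep ih
  have hg : ∀ (A : Matrix (Fin 3) (Fin 3) (ZMod 2)), A.det ≠ 0 → ∀ g : GL (Fin 3) (ZMod 2),
      (g : Matrix (Fin 3) (Fin 3) (ZMod 2)) = A →
      ((g, 1) : GL (Fin 3) (ZMod 2) × Equiv.Perm (Fin 3)) ∈ trioPsi.range.comap trioTarget := by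
    intro A hA
    refine Matrix.diagonal_transvection_induction_of_det_ne_zero
      (fun A => ∀ g : GL (Fin 3) (ZMod 2), (g : Matrix (Fin 3) (Fin 3) (ZMod 2)) = A →
        ((g, 1) : GL (Fin 3) (ZMod 2) × Equiv.Perm (Fin 3)) ∈ trioPsi.range.comap trioTarget)
      A hA ?_ ?_ ?_
    · intro D hD g hg
      have hD1 : D = 1 := by
        rw [Matrix.det_diagonal] at hD
        funext i
        have h2 : ∀ c : ZMod 2, c ≠ 0 → c = 1 := by decide
        exact h2 _ (Finset.prod_ne_zero_iff.1 hD i (Finset.mem_univ i))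
      obtain rfl : g = 1 := Units.ext (by rw [hg, hD1]; exact Matrix.diagonal_one)
      exact one_mem _
    · rintro ⟨i, j, hij, c⟩ g hg
      have h2 : ∀ c : ZMod 2, c = 0 ∨ c = 1 := by decide
      rw [Matrix.TransvectionStruct.toMatrix_mk] at hg
      rcases h2 c with rfl | rfl
      · obtain rfl : g = 1 := Units.ext (by rw [hg]; exact Matrix.transvection_zero i j)
        exact one_mem _
      · obtain ⟨t, -, ht⟩ := trioTransvections_check i j hij
        have hfun : ⇑(gl3Perm g) =
            fun k => nzNum (Matrix.transvection i j (1 : ZMod 2) *ᵥ nzVec k) := by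
          funext k
          rw [← hg]
          rfl
        obtain ⟨x, hx, -⟩ := exists_trioH (so := 1) (sr := gl3Perm g) (by
          rw [hfun, Equiv.Perm.coe_one]; exact ht)
        exact ⟨x, by rw [hx, trioTarget_apply]⟩
    · intro A B hA hB PA PB g hg
      have := mul_mem (PA (Matrix.GeneralLinearGroup.mkOfDetNeZero A hA) rfl)
        (PB (Matrix.GeneralLinearGroup.mkOfDetNeZero B hB) rfl)
      have he : g = Matrix.GeneralLinearGroup.mkOfDetNeZero A hA *
          Matrix.GeneralLinearGroup.mkOfDetNeZero B hB := Units.ext hg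
      rw [he]
      simpa using this
  have hdet : (g : Matrix (Fin 3) (Fin 3) (ZMod 2)).det ≠ 0 :=
    ((Matrix.isUnit_iff_isUnit_det _).1 g.isUnit).ne_zero
  simpa using mul_mem (hg _ hdet g rfl) (hs s)

theorem trio_counts : trioH = ⊤ ∧ trioPsi.range = trioTarget.range ∧ Nat.card trioPsi.ker = 64 := by
  obtain ⟨hc, hel⟩ := trioKernel_check
  simp only [Bool.and_eq_true, beq_iff_eq] at hc
  obtain ⟨⟨hok, h64⟩, -⟩ := hc
  have hker : 64 ≤ Nat.card trioPsi.ker := by
    rw [← h64]
    let e : trioH →* Equiv.Perm GolayPt :=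
      (M24.subtype.comp (MulAction.stabilizer M24 (famPts trioBase)).subtype).comp trioH.subtype
    have he : Function.Injective e := fun x y h => Subtype.ext (Subtype.ext (Subtype.ext h))
    refine (length_le_card hok (trioPsi.ker.map e) fun l hl => ?_).trans
      (Nat.card_congr (trioPsi.ker.equivMapOfInjective e he).toEquiv).ge
    obtain ⟨x, hx, hxl⟩ := exists_trioH (so := 1) (sr := 1) (hel l hl)
    exact ⟨x, MonoidHom.mem_ker.2 (by rw [hx, map_one]; rfl), hxl⟩
  have hrange : 1008 ≤ Nat.card trioPsi.range := by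
    refine le_trans (le_of_eq ?_) (Subgroup.card_le_of_le target_le_range)
    rw [← Nat.card_congr (MonoidHom.ofInjective trioTarget_injective).toEquiv, Nat.card_prod,
      card_gl3, Nat.card_perm, Nat.card_fin]
    decide +kernel
  have hH : Nat.card trioH = Nat.card trioPsi.range * Nat.card trioPsi.ker := by
    rw [← trioPsi.ker.index_mul_card, Subgroup.index_ker]
  have hstab : Nat.card (MulAction.stabilizer M24 (famPts trioBase)) = 64512 := by
    have h2 := card_stabilizer_of_orbit trio_cover.1
    rw [trios_ncard] at h2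
    omega
  have hle : Nat.card trioH ≤ Nat.card (MulAction.stabilizer M24 (famPts trioBase)) :=
    trioH.card_le_card_group
  have hmul : 1008 * 64 ≤ Nat.card trioPsi.range * Nat.card trioPsi.ker := Nat.mul_le_mul hrange hker
  have hk : Nat.card trioPsi.ker = 64 := by
    have : 1008 * Nat.card trioPsi.ker ≤ 64512 :=
      le_trans (Nat.mul_le_mul hrange le_rfl) (by omega)
    omega
  rw [hk] at hH hmul
  refine ⟨Subgroup.eq_top_of_le_card _ (by omega), ?_, hk⟩
  refine (Subgroup.eq_of_le_of_card_ge target_le_range ?_).symm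
  rw [← Nat.card_congr (MonoidHom.ofInjective trioTarget_injective).toEquiv, Nat.card_prod,
    card_gl3, Nat.card_perm, Nat.card_fin,
    show Nat.factorial 3 = 6 by decide +kernel]
  omega

/-- The action of the whole stabiliser. -/
noncomputable def trioHom : MulAction.stabilizer M24 (famPts trioBase) →*
    Equiv.Perm ↥(famPts trioBase) × Equiv.Perm (Fin 7) :=
  trioPsi.comp ((MulEquiv.subgroupCongr trio_counts.1).trans Subgroup.topEquiv).symm.toMonoidHom

theorem trioHom_range : trioHom.range = trioTarget.range := by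
  rw [trioHom, MonoidHom.range_comp, MonoidHom.range_eq_top.2 (MulEquiv.surjective _),
    ← MonoidHom.range_eq_map, trio_counts.2.1]

theorem card_trioHom_ker : Nat.card trioHom.ker = 64 := by
  have h1 := trioHom.ker.index_mul_card
  have h2 := card_stabilizer_of_orbit trio_cover.1
  rw [trios_ncard] at h2
  rw [Subgroup.index_ker, trioHom_range,
    ← Nat.card_congr (MonoidHom.ofInjective trioTarget_injective).toEquiv, Nat.card_prod,
    card_gl3, Nat.card_perm, Nat.card_fin,
    show Nat.factorial 3 = 6 by decide +kernel] at h1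
  omega

theorem trioHom_quotient :
    Nonempty (MulAction.stabilizer M24 (famPts trioBase) ⧸ trioHom.ker ≃*
      GL (Fin 3) (ZMod 2) × Equiv.Perm (Fin 3)) :=
  ⟨((QuotientGroup.quotientKerEquivRange trioHom).trans (MulEquiv.subgroupCongr trioHom_range)).trans
    (MonoidHom.ofInjective trioTarget_injective).symm⟩

theorem trioHom_ker_sq : ∀ x ∈ trioHom.ker, x * x = 1 := by
  intro x hx
  obtain ⟨hc, hel⟩ := trioKernel_check
  simp only [Bool.and_eq_true, beq_iff_eq, List.all_eq_true] at hc
  obtain ⟨⟨hok, h64⟩, hsq⟩ := hc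
  have he : Function.Injective
      (M24.subtype.comp (MulAction.stabilizer M24 (famPts trioBase)).subtype) :=
    fun a b h => Subtype.ext (Subtype.ext h)
  obtain ⟨l, hl, hxl⟩ := exists_of_card_le hok
    (A := trioHom.ker.map (M24.subtype.comp (MulAction.stabilizer M24 (famPts trioBase)).subtype))
    (fun l hl => by
      obtain ⟨y, hy, hyl⟩ := exists_trioH (so := 1) (sr := 1) (hel l hl)
      refine ⟨y.1, MonoidHom.mem_ker.2 ?_, hyl⟩
      show trioPsi _ = 1
      have : ((MulEquiv.subgroupCongr trio_counts.1).trans Subgroup.topEquiv).symm y.1 = y :=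
        Subtype.ext rfl
      rw [show ((MulEquiv.subgroupCongr trio_counts.1).trans
        Subgroup.topEquiv).symm.toMonoidHom y.1 = y from this, hy, map_one]
      rfl)
    (by
      rw [← Nat.card_congr (trioHom.ker.equivMapOfInjective _ he).toEquiv, card_trioHom_ker, h64])
    (Subgroup.mem_map_of_mem _ hx)
  refine he ?_
  rw [map_mul, map_one, ← hxl]
  exact (sqIdB_spec ((elemsOK_spec hok).1 l hl).1) (hsq l hl)

end Cfsg.Agent.Mathieu
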